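import Cfsg.Agent.PGLCover.Singer

/-! Transvections and a diagonal element of `GL_2`. -/

set_option autoImplicit false
set_option linter.style.haveILetI false
set_option linter.unusedSectionVars false

namespace Cfsg.Lib.PGLCover

theorem commute_coprime' {K : Type*} [Group K] [Finite K] [Group.IsNilpotent K] {x y : K}
    (h : (orderOf x).Coprime (orderOf y)) : Commute x y := by
  obtain ⟨e⟩ := ((Group.isNilpotent_of_finite_tfae (G := K)).out 0 4).mp (inferInstance : Group.IsNilpotent K)
  have key : Commute (e.symm x) (e.symm y) := by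
    refine funext fun l => funext fun P => ?_
    haveI : Fact (l : ℕ).Prime := ⟨Nat.prime_of_mem_primeFactors l.2⟩
    show e.symm x l P * e.symm y l P = e.symm y l P * e.symm x l P
    have hdvd : ∀ z : K, orderOf (e.symm z l P) ∣ orderOf z := fun z => by
      rw [← e.symm.orderOf_eq z]
      exact (orderOf_map_dvd (Pi.evalMonoidHom (fun P : Sylow (l : ℕ) K => ↥(P : Subgroup K)) P)
        (e.symm z l)).trans (orderOf_map_dvd (Pi.evalMonoidHom _ l) (e.symm z))
    by_cases ha : e.symm x l P = 1
    · rw [ha, one_mul, mul_one]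
    by_cases hb : e.symm y l P = 1
    · rw [hb, one_mul, mul_one]
    exact absurd (Nat.eq_one_of_dvd_coprimes h ((P.2.dvd_orderOf ha).trans (hdvd x))
      ((P.2.dvd_orderOf hb).trans (hdvd y))) (Fact.out : (l : ℕ).Prime).ne_one
  simpa using key.map e

/-- Elements of coprime orders in a nilpotent subgroup commute. -/
theorem commute_of_coprime {𝔾 : Type*} [Group 𝔾] {K : Subgroup 𝔾} [Finite K] [Group.IsNilpotent K] {x y : 𝔾}
    (hx : x ∈ K) (hy : y ∈ K) (h : (orderOf x).Coprime (orderOf y)) : Commute x y :=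
  congrArg Subtype.val (commute_coprime' (x := (⟨x, hx⟩ : K)) (y := ⟨y, hy⟩)
    (by rwa [Subgroup.orderOf_mk, Subgroup.orderOf_mk])).eq

variable {F : Type*} [Field F] [Fintype F]

local notation "q" => Fintype.card F
local notation "M" => Matrix (Fin 2) (Fin 2) F

/-- A representative of a point of the projective line. -/
def pt : Option F → Fin 2 → F
  | none => ![1, 0]
  | some a => ![a, 1]

/-- The transvection matrix with centre `v`. -/
def tvMat (v : Fin 2 → F) : M := !![1 + v 0 * v 1, -(v 0 * v 0); v 1 * v 1, 1 - v 0 * v 1]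

theorem tvMat_det (v : Fin 2 → F) : (tvMat v).det = 1 := by
  simp [tvMat, Matrix.det_fin_two]; ring

/-- The transvection as a group element. -/
noncomputable def tv (o : Option F) : GL (Fin 2) F :=
  Matrix.SpecialLinearGroup.toGL ⟨tvMat (pt o), tvMat_det _⟩

theorem tv_val (o : Option F) : (tv o : M) = tvMat (pt o) := rfl

theorem tv_sq (o : Option F) : ((tv o : M) - 1) * ((tv o : M) - 1) = 0 := by
  rw [tv_val, tvMat, Matrix.one_fin_two]
  ext i j; fin_cases i <;> fin_cases j <;> simp [Matrix.mul_apply, Fin.sum_univ_two] <;> ring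

theorem tv_ne (o : Option F) : (tv o : M) - 1 ≠ 0 := by
  intro h
  rw [tv_val, tvMat, Matrix.one_fin_two, sub_eq_zero] at h
  cases o with
  | none => simpa [pt] using congrFun (congrFun h 0) 1
  | some a => simpa [pt] using congrFun (congrFun h 1) 0

/-- A common fixed vector pins down the point. -/
theorem tv_fixed {o o' : Option F} {w : Fin 2 → F} (hw : w ≠ 0) (h : (tv o : M).mulVec w = w)
    (h' : (tv o' : M).mulVec w = w) : o = o' := by
  have key : ∀ o : Option F, (tv o : M).mulVec w = w → pt o 1 * w 0 = pt o 0 * w 1 := by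
    intro o h
    have h0 := congrFun h 0
    have h1 := congrFun h 1
    rw [tv_val] at h0 h1
    cases o with
    | none =>
      simp [pt, tvMat, Matrix.mulVec, dotProduct, Fin.sum_univ_two] at h0 h1 ⊢
      linear_combination -h0
    | some a =>
      simp [pt, tvMat, Matrix.mulVec, dotProduct, Fin.sum_univ_two] at h0 h1 ⊢
      linear_combination h1
  have h1 := key o h
  have h2 := key o' h'
  cases o with
  | none =>
    simp [pt] at h1
    cases o' with
    | none => rfl
    | some a =>
      simp [pt] at h2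
      exact absurd (funext fun i => by
        fin_cases i
        · simp [h2, ← h1]
        · simp [← h1]) hw
  | some a =>
    simp [pt] at h1
    cases o' with
    | none =>
      simp [pt] at h2
      exact absurd (funext fun i => by
        fin_cases i
        · simp [h1, ← h2]
        · simp [← h2]) hw
    | some b =>
      simp [pt] at h2
      have hw1 : w 1 ≠ 0 := fun h0 => hw (funext fun i => by fin_cases i <;> simp_all)
      exact congrArg some (mul_right_cancel₀ hw1 (h1.symm.trans h2))

theorem tv_order {p : ℕ} [Fact p.Prime] [CharP F p] (o : Option F) : orderOf (tv o) = p := by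
  refine orderOf_eq_prime ?_ ?_
  · refine Units.ext ?_
    rw [Units.val_pow_eq_pow_val, Units.val_one]
    have h := add_pow_char_of_commute (R := M) (x := (tv o : M) - 1) (y := 1) p (Commute.one_right _)
    rw [sub_add_cancel, one_pow] at h
    rw [h, show p = 2 + (p - 2) from by have := (Fact.out : p.Prime).two_le; omega, pow_add, pow_two,
      tv_sq, zero_mul, zero_add]
  · intro h
    exact tv_ne o (by rw [h, Units.val_one, sub_self])

/-- Two transvections in a nilpotent subgroup have the same centre. -/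
theorem tv_unique {p : ℕ} [Fact p.Prime] [CharP F p] {K : Subgroup (GL (Fin 2) F)} [Group.IsNilpotent K]
    {o o' : Option F} (h : tv o ∈ K) (h' : tv o' ∈ K) : o = o' := by
  classical
  obtain ⟨P⟩ : Nonempty (Sylow p K) := inferInstance
  haveI hnorm : (P : Subgroup K).Normal := P.normal_of_normalizerCondition Group.normalizerCondition_of_isNilpotent
  have hmem : ∀ o (ho : tv o ∈ K), (⟨tv o, ho⟩ : K) ∈ (P : Subgroup K) := by
    intro o ho
    have hp : IsPGroup p (Subgroup.zpowers (⟨tv o, ho⟩ : K)) :=
      IsPGroup.of_card (n := 1) (by rw [Nat.card_zpowers, Subgroup.orderOf_mk, tv_order (p := p), pow_one])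
    obtain ⟨Q, hQ⟩ := hp.exists_le_sylow
    haveI := Sylow.unique_of_normal P hnorm
    rw [Subsingleton.elim P Q]
    exact hQ (Subgroup.mem_zpowers _)
  set P' : Subgroup (GL (Fin 2) F) := (P : Subgroup K).map K.subtype with hP'
  have hP'p : IsPGroup p P' := P.2.map _
  letI : MulAction P' (Fin 2 → F) :=
    { smul := fun g w => ((g : GL (Fin 2) F) : M).mulVec w
      one_smul := fun w => Matrix.one_mulVec w
      mul_smul := fun g g' w => (Matrix.mulVec_mulVec w _ _).symm }
  obtain ⟨k, hk⟩ : ∃ k : ℕ, q = p ^ k := by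
    obtain ⟨k, -, hk⟩ := FiniteField.card F p
    exact ⟨k, hk⟩
  have hdvd : p ∣ Nat.card (Fin 2 → F) := by
    rw [Nat.card_fun, Nat.card_fin, Nat.card_eq_fintype_card, hk]
    have hk0 : k ≠ 0 := by
      rintro rfl
      have := Fintype.one_lt_card (α := F)
      rw [hk, pow_zero] at this; omega
    exact dvd_pow (dvd_pow_self p hk0) two_ne_zero
  obtain ⟨w, hw, hw0⟩ := hP'p.exists_fixed_point_of_prime_dvd_card_of_fixed_point (Fin 2 → F) hdvd
    (a := 0) (fun g => Matrix.mulVec_zero _)
  have hfix : ∀ o (ho : tv o ∈ K), (tv o : M).mulVec w = w := fun o ho =>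
    hw ⟨tv o, ⟨⟨tv o, ho⟩, hmem o ho, rfl⟩⟩
  exact tv_fixed (Ne.symm hw0) (hfix o h) (hfix o' h')

theorem diag_det (a : Fˣ) : (!![(a : F), 0; 0, ((a⁻¹ : Fˣ) : F)] : M).det = 1 := by
  simp [Matrix.det_fin_two]

/-- The diagonal element. -/
noncomputable def dia (a : Fˣ) : GL (Fin 2) F :=
  Matrix.SpecialLinearGroup.toGL ⟨!![(a : F), 0; 0, ((a⁻¹ : Fˣ) : F)], diag_det a⟩

theorem dia_val (a : Fˣ) : (dia a : M) = !![(a : F), 0; 0, ((a⁻¹ : Fˣ) : F)] := rfl

theorem dia_pow_card (a : Fˣ) (k : ℕ) (hk : a ^ k = 1) : dia a ^ k = 1 := by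
  let f : Fˣ →* GL (Fin 2) F :=
    { toFun := dia
      map_one' := Units.ext (by rw [dia_val, Units.val_one]; simp [Matrix.one_fin_two])
      map_mul' := fun b c => Units.ext (by
        rw [Units.val_mul, dia_val, dia_val, dia_val]
        simp [mul_inv_rev, mul_comm]) }
  show f a ^ k = 1
  rw [← map_pow, hk, map_one]

/-- What commutes with the diagonal element is diagonal. -/
theorem dia_comm {a : Fˣ} (ha : a ^ 2 ≠ 1) {x : M} (h : x * (dia a : M) = (dia a : M) * x) :
    x 0 1 = 0 ∧ x 1 0 = 0 := by
  have hne : (a : F) - ((a⁻¹ : Fˣ) : F) ≠ 0 := by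
    rw [sub_ne_zero]
    intro he
    apply ha
    rw [pow_two]
    exact mul_eq_one_iff_eq_inv.2 (Units.ext he)
  rw [dia_val] at h
  have h01 := congrFun (congrFun h 0) 1
  have h10 := congrFun (congrFun h 1) 0
  simp [Matrix.mul_apply, Fin.sum_univ_two] at h01 h10
  refine ⟨(mul_eq_zero.1 (show x 0 1 * ((a : F) - ((a⁻¹ : Fˣ) : F)) = 0 from ?_)).resolve_right hne,
    (mul_eq_zero.1 (show x 1 0 * ((a : F) - ((a⁻¹ : Fˣ) : F)) = 0 from ?_)).resolve_right hne⟩
  · simp only [Units.val_inv_eq_inv_val]; linear_combination -h01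
  · simp only [Units.val_inv_eq_inv_val]; linear_combination h10

end Cfsg.Lib.PGLCover
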