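import Mathlib

/-! The number of subspaces of a finite space, and the comparison with the number of tori. -/

set_option autoImplicit false
set_option linter.style.haveILetI false
set_option linter.unusedSectionVars false

namespace Cfsg.Lib.PGLCover

variable (F : Type*) [Field F] [Fintype F]

local notation "q" => Fintype.card F

/-- The number of subspaces. -/
noncomputable def nSub (n : ℕ) : ℕ := Nat.card (Submodule F (Fin n → F))

theorem nSub_succ (n : ℕ) : nSub F (n + 1) + q ^ n ≤ nSub F n + (nSub F n * q ^ n + 1) := by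
  classical
  haveI : Finite (Submodule F (Fin n → F)) := inferInstance
  haveI := Fintype.ofFinite (Submodule F (Fin n → F))
  set ι : (Fin n → F) →ₗ[F] (Fin (n + 1) → F) :=
    { toFun := fun x => Fin.snoc x 0
      map_add' := fun x y => by
        funext i; refine Fin.lastCases ?_ (fun j => ?_) i <;> simp
      map_smul' := fun a x => by
        funext i; refine Fin.lastCases ?_ (fun j => ?_) i <;> simp }
  have hι : ∀ (w : Fin (n + 1) → F), w (Fin.last n) = 0 → ι (Fin.init w) = w := fun w hw => by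
    show Fin.snoc (Fin.init w) 0 = w
    rw [← hw, Fin.snoc_init_self]
  let U : Submodule F (Fin (n + 1) → F) → Submodule F (Fin n → F) := fun W => W.comap ι
  have hex : ∀ W : Submodule F (Fin (n + 1) → F), ¬ (∀ w ∈ W, w (Fin.last n) = 0) →
      ∃ v ∈ W, v (Fin.last n) = 1 := by
    intro W h
    push Not at h
    obtain ⟨w, hw, hw0⟩ := h
    exact ⟨(w (Fin.last n))⁻¹ • w, W.smul_mem _ hw, by simp [hw0]⟩
  let f : Submodule F (Fin (n + 1) → F) →
      Submodule F (Fin n → F) ⊕ Σ U : Submodule F (Fin n → F), (Fin n → F) ⧸ U := fun W =>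
    if h : ∀ w ∈ W, w (Fin.last n) = 0 then Sum.inl (U W)
    else Sum.inr ⟨U W, Submodule.Quotient.mk (Fin.init (hex W h).choose)⟩
  have hf : Function.Injective f := by
    have hle : ∀ W W', f W = f W' → W ≤ W' := by
      intro W W' h w hw
      by_cases h1 : ∀ w ∈ W, w (Fin.last n) = 0 <;> by_cases h2 : ∀ w ∈ W', w (Fin.last n) = 0
      · simp only [f, dif_pos h1, dif_pos h2, Sum.inl.injEq] at h
        have hmem : Fin.init w ∈ U W := by show ι (Fin.init w) ∈ W; rw [hι w (h1 w hw)]; exact hw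
        rw [h] at hmem
        have : ι (Fin.init w) ∈ W' := hmem
        rwa [hι w (h1 w hw)] at this
      · simp [f, dif_pos h1, dif_neg h2] at h
      · simp [f, dif_neg h1, dif_pos h2] at h
      · simp only [f, dif_neg h1, dif_neg h2, Sum.inr.injEq] at h
        set v := (hex W h1).choose
        set v' := (hex W' h2).choose
        obtain ⟨hv, hv1⟩ := (hex W h1).choose_spec
        obtain ⟨hv', hv1'⟩ := (hex W' h2).choose_spec
        have hU : U W = U W' := congrArg Sigma.fst h
        have hq : Fin.init v - Fin.init v' ∈ U W' := by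
          have key : ∀ (A B : Submodule F (Fin n → F)) (a b : Fin n → F),
              (⟨A, Submodule.Quotient.mk a⟩ : Σ U : Submodule F (Fin n → F), (Fin n → F) ⧸ U) =
                ⟨B, Submodule.Quotient.mk b⟩ → a - b ∈ B := by
            intro A B a b e
            obtain rfl : A = B := congrArg Sigma.fst e
            exact (Submodule.Quotient.eq A).1 (eq_of_heq (Sigma.mk.inj e).2)
          exact key _ _ _ _ h
        have hdec : v = v' + ι (Fin.init v - Fin.init v') := by
          have h0 : ι (Fin.init (v - v')) = v - v' := hι _ (by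
            show v (Fin.last n) - v' (Fin.last n) = 0
            rw [show v (Fin.last n) = 1 from hv1, show v' (Fin.last n) = 1 from hv1', sub_self])
          rw [show Fin.init v - Fin.init v' = Fin.init (v - v') from rfl, h0]; abel
        have hvW' : v ∈ W' := by rw [hdec]; exact W'.add_mem hv' hq
        have h0 : ι (Fin.init (w - w (Fin.last n) • v)) = w - w (Fin.last n) • v := hι _ (by
          show w (Fin.last n) - w (Fin.last n) • v (Fin.last n) = 0
          rw [show v (Fin.last n) = 1 from hv1]; simp)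
        have hmem : Fin.init (w - w (Fin.last n) • v) ∈ U W := by
          show ι _ ∈ W
          rw [h0]; exact W.sub_mem hw (W.smul_mem _ hv)
        rw [hU] at hmem
        have hmem' : ι (Fin.init (w - w (Fin.last n) • v)) ∈ W' := hmem
        rw [h0] at hmem'
        have := W'.add_mem hmem' (W'.smul_mem (w (Fin.last n)) hvW')
        rwa [sub_add_cancel] at this
    exact fun W W' h => le_antisymm (hle W W' h) (hle W' W h.symm)
  have hcard := Nat.card_le_card_of_injective f hf
  rw [Nat.card_sum, Nat.card_sigma] at hcard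
  have htop : Nat.card ((Fin n → F) ⧸ (⊤ : Submodule F (Fin n → F))) = 1 :=
    Nat.card_eq_one_iff_unique.2 ⟨inferInstance, inferInstance⟩
  have hle : ∀ U : Submodule F (Fin n → F), Nat.card ((Fin n → F) ⧸ U) ≤ q ^ n := fun U => by
    refine le_trans (Nat.card_le_card_of_surjective _ (Submodule.mkQ_surjective U)) ?_
    rw [Nat.card_fun, Nat.card_fin, Nat.card_eq_fintype_card]
  have hsum : ∑ U : Submodule F (Fin n → F), Nat.card ((Fin n → F) ⧸ U) + q ^ n ≤ nSub F n * q ^ n + 1 := by
    rw [← Finset.sum_erase_add _ _ (Finset.mem_univ (⊤ : Submodule F (Fin n → F))), htop]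
    have h1 := Finset.sum_le_card_nsmul (Finset.univ.erase (⊤ : Submodule F (Fin n → F)))
      (fun U => Nat.card ((Fin n → F) ⧸ U)) (q ^ n) fun U _ => hle U
    rw [Finset.card_erase_of_mem (Finset.mem_univ _), Finset.card_univ, ← Nat.card_eq_fintype_card,
      smul_eq_mul] at h1
    have hpos : 0 < nSub F n := Nat.card_pos
    have h2 : (nSub F n - 1) * q ^ n + q ^ n = nSub F n * q ^ n := by
      rw [← Nat.succ_mul]; congr 1; omega
    have h3 : Nat.card (Submodule F (Fin n → F)) = nSub F n := rfl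
    rw [h3] at h1
    omega
  show Nat.card (Submodule F (Fin (n + 1) → F)) + _ ≤ _
  have h3 : Nat.card (Submodule F (Fin n → F)) = nSub F n := rfl
  rw [h3] at hcard
  omega

theorem nSub_zero : nSub F 0 = 1 := Nat.card_eq_one_iff_unique.2 ⟨inferInstance, inferInstance⟩

theorem nSub_two : nSub F 2 ≤ q + 3 := by
  have h0 := nSub_succ F 0
  have h1 := nSub_succ F 1
  have h2 := nSub_zero F
  rw [h2, pow_zero] at h0
  rw [show (0 + 1 : ℕ) = 1 from rfl] at h0
  have h4 : nSub F 1 ≤ 2 := by omega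
  have h3 : nSub F 1 * q ^ 1 ≤ 2 * q ^ 1 := Nat.mul_le_mul_right _ h4
  rw [pow_one] at h1 h3
  rw [show (1 + 1 : ℕ) = 2 from rfl] at h1
  omega

/-- The order of `GL n q` as a recursively defined number. -/
noncomputable def glCard (n : ℕ) : ℕ := ∏ i : Fin n, (q ^ n - q ^ (i : ℕ))

theorem glCard_succ (n : ℕ) : glCard F (n + 1) = (q ^ (n + 1) - 1) * (q ^ n * glCard F n) := by
  unfold glCard
  rw [Fin.prod_univ_succ, Fin.val_zero, pow_zero]
  congr 1
  have : ∀ i : Fin n, q ^ (n + 1) - q ^ ((i.succ : Fin (n + 1)) : ℕ) = q * (q ^ n - q ^ (i : ℕ)) := fun i => by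
    rw [Fin.val_succ, pow_succ', pow_succ', Nat.mul_sub]
  rw [Finset.prod_congr rfl fun i _ => this i, Finset.prod_mul_distrib, Finset.prod_const, Finset.card_univ,
    Fintype.card_fin]

/-- There are fewer subspaces than tori of type `(n - 1, 1)`. -/
theorem count_lt {n : ℕ} (hn : 3 ≤ n) :
    nSub F n * ((n - 1) * ((q ^ (n - 1) - 1) * (q - 1))) < glCard F n := by
  have hq : 2 ≤ q := Fintype.one_lt_card
  induction n, hn using Nat.le_induction with
  | base =>
    have h2 := nSub_two F
    have h3 : nSub F 3 + q ^ 2 ≤ nSub F 2 + (nSub F 2 * q ^ 2 + 1) := nSub_succ F 2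
    have h4 : nSub F 3 ≤ (q + 3) + ((q + 3) * q ^ 2 + 1) - q ^ 2 := by
      have := Nat.mul_le_mul_right (q ^ 2) h2
      omega
    rw [glCard_succ, glCard_succ, glCard_succ, show glCard F 0 = 1 by simp [glCard]]
    obtain ⟨a, ha⟩ := Nat.exists_eq_add_of_le hq
    rw [ha] at h4 ⊢
    have e1 : (2 + a) ^ 2 - 1 = a ^ 2 + 4 * a + 3 := by
      rw [show (2 + a) ^ 2 = a ^ 2 + 4 * a + 3 + 1 by ring]; omega
    have e2 : (2 + a) ^ 3 - 1 = a ^ 3 + 6 * a ^ 2 + 12 * a + 7 := by
      rw [show (2 + a) ^ 3 = a ^ 3 + 6 * a ^ 2 + 12 * a + 7 + 1 by ring]; omega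
    have e3 : 2 + a + 3 + ((2 + a + 3) * (2 + a) ^ 2 + 1) - (2 + a) ^ 2 = a ^ 3 + 8 * a ^ 2 + 21 * a + 22 := by
      have : 2 + a + 3 + ((2 + a + 3) * (2 + a) ^ 2 + 1) = a ^ 3 + 8 * a ^ 2 + 21 * a + 22 + (2 + a) ^ 2 := by ring
      omega
    rw [e3] at h4
    rw [show (3 : ℕ) - 1 = 2 from rfl, show (2 + a) - 1 = a + 1 by omega]
    simp only [zero_add, pow_zero, pow_one, Nat.reduceAdd, mul_one]
    rw [e1, e2, show (2 + a) - 1 = a + 1 by omega]
    calc nSub F 3 * (2 * ((a ^ 2 + 4 * a + 3) * (a + 1)))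
        ≤ (a ^ 3 + 8 * a ^ 2 + 21 * a + 22) * (2 * ((a ^ 2 + 4 * a + 3) * (a + 1))) :=
          Nat.mul_le_mul_right _ h4
      _ = (2 * (a ^ 3 + 8 * a ^ 2 + 21 * a + 22)) * ((a ^ 2 + 4 * a + 3) * (a + 1)) := by ring
      _ < ((a ^ 3 + 6 * a ^ 2 + 12 * a + 7) * (2 + a) ^ 3) * ((a ^ 2 + 4 * a + 3) * (a + 1)) := by
          refine Nat.mul_lt_mul_of_pos_right ?_ (by positivity)
          ring_nf
          nlinarith [Nat.zero_le (a ^ 2), Nat.zero_le (a ^ 3), Nat.zero_le (a ^ 4), Nat.zero_le (a ^ 5),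
            Nat.zero_le (a ^ 6), Nat.zero_le a]
      _ = _ := by ring
  | succ n hn ih =>
    rw [glCard_succ]
    simp only [Nat.add_sub_cancel]
    have hS : nSub F (n + 1) ≤ nSub F n * (2 * q ^ n) := by
      have h1 := nSub_succ F n
      have h2 : 1 ≤ q ^ n := Nat.one_le_pow _ _ (by omega)
      have h3 : nSub F n ≤ nSub F n * q ^ n := Nat.le_mul_of_pos_right _ (by omega)
      rw [show nSub F n * (2 * q ^ n) = nSub F n * q ^ n + nSub F n * q ^ n by ring]
      omega
    have hqn : q ^ n = q ^ (n - 1) * q := by rw [← pow_succ]; congr 1; omega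
    have h4q : 4 * q ≤ q ^ (n + 1) - 1 := by
      have h3 : q ^ 4 ≤ q ^ (n + 1) := Nat.pow_le_pow_right (by omega) (by omega)
      have h4 : 8 * q ≤ q ^ 4 := by
        calc 8 * q = 2 ^ 3 * q := by norm_num
          _ ≤ q ^ 3 * q := Nat.mul_le_mul_right _ (Nat.pow_le_pow_left hq 3)
          _ = q ^ 4 := by ring
      omega
    have hfac : n * (q ^ n - 1) ≤ 2 * q * ((n - 1) * (q ^ (n - 1) - 1)) := by
      have h3 : 3 * (q ^ n - 1) ≤ 4 * (q * (q ^ (n - 1) - 1)) := by
        have h1 : q ^ 3 ≤ q ^ n := Nat.pow_le_pow_right (by omega) hn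
        have h2 : 4 * q ≤ q ^ 3 := by
          calc 4 * q = 2 ^ 2 * q := by norm_num
            _ ≤ q ^ 2 * q := Nat.mul_le_mul_right _ (Nat.pow_le_pow_left hq 2)
            _ = q ^ 3 := by ring
        rw [Nat.mul_sub_one q, mul_comm q (q ^ (n - 1)), ← hqn]
        omega
      have h5 : 2 * n ≤ 3 * (n - 1) := by omega
      have h6 := Nat.mul_le_mul h5 h3
      have e1 : 2 * n * (3 * (q ^ n - 1)) = 6 * (n * (q ^ n - 1)) := by ring
      have e2 : 3 * (n - 1) * (4 * (q * (q ^ (n - 1) - 1))) = 6 * (2 * q * ((n - 1) * (q ^ (n - 1) - 1))) := by ring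
      omega
    calc nSub F (n + 1) * (n * ((q ^ n - 1) * (q - 1)))
        ≤ (nSub F n * (2 * q ^ n)) * (n * ((q ^ n - 1) * (q - 1))) := Nat.mul_le_mul_right _ hS
      _ = nSub F n * (n * (q ^ n - 1)) * (2 * q ^ n * (q - 1)) := by ring
      _ ≤ nSub F n * (2 * q * ((n - 1) * (q ^ (n - 1) - 1))) * (2 * q ^ n * (q - 1)) :=
          Nat.mul_le_mul_right _ (Nat.mul_le_mul_left _ hfac)
      _ = nSub F n * ((n - 1) * ((q ^ (n - 1) - 1) * (q - 1))) * (4 * q * q ^ n) := by ring
      _ < glCard F n * (4 * q * q ^ n) := Nat.mul_lt_mul_of_pos_right ih (by positivity)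
      _ ≤ glCard F n * ((q ^ (n + 1) - 1) * q ^ n) := Nat.mul_le_mul_left _ (Nat.mul_le_mul_right _ h4q)
      _ = _ := by ring

end Cfsg.Lib.PGLCover
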