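import Mathlib

/-! Finite extension fields of a finite field: fixed points of automorphisms, generators,
and the arithmetic bounds used for the normalisers of tori. -/

set_option autoImplicit false
set_option linter.style.haveILetI false

namespace Cfsg.Lib.PGLCover

variable {F : Type*} [Field F] [Fintype F] {E : Type*} [Field E] [Algebra F E]

local notation "q" => Fintype.card F

omit [Fintype F] in
theorem fin_aut [Finite E] : Finite (E ≃ₐ[F] E) :=
  Finite.of_injective (fun e : E ≃ₐ[F] E => (e : E → E)) DFunLike.coe_injective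

theorem mem_base [Finite E] {x : E} (hx : x ^ q = x) : ∃ c : F, algebraMap F E c = x := by
  classical
  open Polynomial in
  set P : E[X] := X ^ q - X with hP
  have hq : 1 < q := Fintype.one_lt_card
  have hP0 : P ≠ 0 := FiniteField.X_pow_card_sub_X_ne_zero E hq
  have hsub : Finset.univ.image (algebraMap F E) ⊆ P.roots.toFinset := by
    intro y hy
    obtain ⟨c, -, rfl⟩ := Finset.mem_image.1 hy
    rw [Multiset.mem_toFinset, Polynomial.mem_roots hP0]
    simp [hP, ← map_pow, FiniteField.pow_card c]
  have heq := Finset.eq_of_subset_of_card_le hsub (by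
    rw [Finset.card_image_of_injective _ (algebraMap F E).injective, Finset.card_univ]
    refine (Multiset.toFinset_card_le _).trans ((Polynomial.card_roots' _).trans ?_)
    rw [hP, FiniteField.X_pow_card_sub_X_natDegree_eq E hq])
  have hmem : x ∈ Finset.univ.image (algebraMap F E) := by
    rw [heq, Multiset.mem_toFinset, Polynomial.mem_roots hP0]; simp [hP, hx]
  obtain ⟨c, -, hc⟩ := Finset.mem_image.1 hmem
  exact ⟨c, hc⟩

/-- Fixed points of a nontrivial automorphism. -/
theorem aut_small [Finite E] (σ : E ≃ₐ[F] E) (hσ : σ ≠ 1) :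
    ∃ d, 1 ≤ d ∧ 2 ≤ orderOf σ ∧ orderOf σ * d = Module.finrank F E ∧
      ∀ x, x ≠ 0 → σ x = x → x ^ (q ^ d - 1) = 1 := by
  haveI := fin_aut (F := F) (E := E)
  set D := IntermediateField.fixedField (Subgroup.zpowers σ) with hD
  haveI : Module.Finite F E := Module.Finite.of_finite
  refine ⟨Module.finrank F D, Module.finrank_pos, ?_, ?_, fun x hx0 hx => ?_⟩
  · have h1 : 0 < orderOf σ := orderOf_pos σ
    have h2 : orderOf σ ≠ 1 := fun h => hσ (orderOf_eq_one_iff.1 h)
    omega
  · rw [← Module.finrank_mul_finrank F D E, IntermediateField.finrank_fixedField_eq_card, Nat.card_zpowers,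
      mul_comm]
  · have hmem : x ∈ D := by
      rw [hD, IntermediateField.mem_fixedField_iff]
      rintro f hf
      obtain ⟨i, rfl⟩ := mem_powers_iff_mem_zpowers.2 hf
      clear hf
      show (σ ^ i) x = x
      induction i with
      | zero => simp
      | succ i ih => rw [pow_succ, AlgEquiv.mul_apply, hx, ih]
    haveI := Fintype.ofFinite D
    have h := FiniteField.pow_card_sub_one_eq_one (⟨x, hmem⟩ : D) (fun h => hx0 (congrArg Subtype.val h))
    rw [Fintype.card_eq_nat_card, Module.natCard_eq_pow_finrank (K := F), Nat.card_eq_fintype_card] at h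
    exact congrArg Subtype.val h

/-- A nonzero element of large multiplicative order generates. -/
theorem adjoin_eq_top [Finite E] {x : E} (hx : x ≠ 0) {N : ℕ} (hN : N ≤ orderOf x)
    (hbig : q ^ (Module.finrank F E - 1) ≤ N) : Algebra.adjoin F ({x} : Set E) = ⊤ := by
  haveI : Module.Finite F E := Module.Finite.of_finite
  by_contra hne
  set C := Algebra.adjoin F ({x} : Set E) with hC
  have hdim : Module.finrank F C < Module.finrank F E := by
    have := Submodule.finrank_lt (s := Subalgebra.toSubmodule C) (fun h => hne (Algebra.toSubmodule_eq_top.1 h))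
    exact this
  have hmem : ∀ i, x ^ i ∈ C := fun i => pow_mem (Algebra.self_mem_adjoin_singleton F x) i
  have hinj : Function.Injective (fun o : Option (Fin (orderOf x)) =>
      (match o with
       | none => (0 : C)
       | some i => ⟨x ^ (i : ℕ), hmem _⟩)) := by
    rintro (_ | i) (_ | j) h
    · rfl
    · exact absurd (congrArg Subtype.val h).symm (pow_ne_zero _ hx)
    · exact absurd (congrArg Subtype.val h) (pow_ne_zero _ hx)
    · exact congrArg some (Fin.ext (pow_injOn_Iio_orderOf i.2 j.2 (congrArg Subtype.val h)))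
  have hc := Nat.card_le_card_of_injective _ hinj
  rw [Finite.card_option, Nat.card_fin, Module.natCard_eq_pow_finrank (K := F), Nat.card_eq_fintype_card] at hc
  have h2 : q ^ Module.finrank F C ≤ q ^ (Module.finrank F E - 1) :=
    Nat.pow_le_pow_right Fintype.card_pos (by omega)
  omega

theorem geom_bound {a n : ℕ} (ha : 2 ≤ a) (hn : 3 ≤ n) : n * (a - 1) < (a ^ n - 1) / (a - 1) := by
  have h : ∀ n, 3 ≤ n → n * (a - 1) * (a - 1) + (a - 1) ≤ a ^ n - 1 := by
    intro n hn
    induction n, hn using Nat.le_induction with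
    | base =>
      zify [show 1 ≤ a by omega, Nat.one_le_pow 3 a (by omega)]
      have h2 : (1 : ℤ) ≤ (a : ℤ) := by omega
      nlinarith [mul_nonneg (sub_nonneg.2 h2) (sq_nonneg ((a : ℤ) - 1))]
    | succ n hn ih =>
      have h1 : a * a ≤ a ^ n := by
        calc a * a = a ^ 2 := (pow_two a).symm
          _ ≤ a ^ n := Nat.pow_le_pow_right (by omega) (by omega)
      rw [pow_succ]
      have h3 : a ^ n * 2 ≤ a ^ n * a := Nat.mul_le_mul_left _ ha
      have h4 : (a - 1) * (a - 1) ≤ a * a := Nat.mul_le_mul (by omega) (by omega)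
      have h5 : (n + 1) * (a - 1) * (a - 1) = n * (a - 1) * (a - 1) + (a - 1) * (a - 1) := by ring
      omega
  rw [Nat.lt_iff_add_one_le, Nat.le_div_iff_mul_le (by omega), add_mul, one_mul]
  exact h n hn

theorem torus_bound {a m d n : ℕ} (ha : 2 ≤ a) (hm : 2 ≤ m) (hd : 1 ≤ d) (hmd : m * d = n) (hn : 3 ≤ n) :
    m * (a ^ d - 1) < (a ^ n - 1) / (a - 1) := by
  rcases Nat.lt_or_ge d 2 with hd2 | hd2
  · obtain rfl : d = 1 := by omega
    rw [pow_one, show m = n by omega]; exact geom_bound ha hn
  · have h1 : m ≤ a ^ (m - 1) := by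
      have := Nat.lt_pow_self (n := m - 1) (show 1 < a by omega); omega
    have h2 : m - 1 + d ≤ n - 1 := by
      obtain ⟨i, rfl⟩ := Nat.exists_eq_add_of_le hm
      obtain ⟨j, rfl⟩ := Nat.exists_eq_add_of_le hd2
      have : (2 + i) * (2 + j) = 4 + 2 * i + 2 * j + i * j := by ring
      omega
    have h3 : m * (a ^ d - 1) < m * a ^ d :=
      Nat.mul_lt_mul_of_pos_left (Nat.sub_lt (pow_pos (by omega) _) one_pos) (by omega)
    have h4 : m * a ^ d ≤ a ^ (n - 1) := by
      refine le_trans (Nat.mul_le_mul_right _ h1) ?_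
      rw [← pow_add]; exact Nat.pow_le_pow_right (by omega) h2
    have h5 : a ^ (n - 1) ≤ (a ^ n - 1) / (a - 1) := by
      rw [Nat.le_div_iff_mul_le (by omega)]
      have : a ^ n = a ^ (n - 1) * a := by rw [← pow_succ]; congr 1; omega
      rw [this, Nat.mul_sub_one]
      have := Nat.one_le_pow (n - 1) a (by omega)
      omega
    omega

theorem mul_lt_pow_sub_one {a m : ℕ} (ha : 2 ≤ a) (hm : 2 ≤ m) : m * (a - 1) < a ^ m - 1 := by
  induction m, hm using Nat.le_induction with
  | base =>
    have : 2 * a ≤ a * a := Nat.mul_le_mul_right a ha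
    rw [pow_two]; omega
  | succ m hm ih =>
    have h1 : a ≤ a ^ m := Nat.le_self_pow (by omega) a
    have h3 : a ^ m * 2 ≤ a ^ m * a := Nat.mul_le_mul_left _ ha
    rw [pow_succ, add_mul, one_mul]
    omega

theorem split_bound {a m d r : ℕ} (ha : 2 ≤ a) (hm : 2 ≤ m) (hd : 1 ≤ d) (hmd : m * d = r) :
    m * (a ^ d - 1) < a ^ r - 1 := by
  rw [← hmd, Nat.mul_comm m d, pow_mul]
  exact mul_lt_pow_sub_one (le_trans ha (Nat.le_self_pow (by omega) a)) hm

end Cfsg.Lib.PGLCover
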