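import Cfsg.Agent.PGLCover.Split
import Cfsg.Agent.PGLCover.Two
import Cfsg.Agent.PGLCover.Count

/-! Groups between `PSL_n(q)` and `PGL_n(q)` have no nilpotent minimal cover. -/

set_option autoImplicit false
set_option linter.style.haveILetI false
set_option linter.unusedSectionVars false

namespace Cfsg.Lib.PGLCover

universe u

variable {F : Type u} [Field F] [Fintype F] {n : ℕ}

local notation "q" => Fintype.card F
local notation "M" => Matrix (Fin n) (Fin n) F

/-- A family of elements of `SL_n Z` no two of which lie in a common nilpotent subgroup. -/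
def Separated {X : Type*} (e : X → GL (Fin n) F) : Prop :=
  (∀ x, e x ∈ slz F n) ∧
    ∀ K : Subgroup (GL (Fin n) F), Group.IsNilpotent K → ∀ x y, e x ∈ K → e y ∈ K → x = y

/-- The stabiliser of a subspace. -/
def stab (W : Submodule F (Fin n → F)) : Subgroup (GL (Fin n) F) where
  carrier := {g | (∀ w ∈ W, (g : M).mulVec w ∈ W) ∧ ∀ w ∈ W, ((g⁻¹ : GL (Fin n) F) : M).mulVec w ∈ W}
  one_mem' := by simp
  mul_mem' := by
    rintro a b ⟨ha, ha'⟩ ⟨hb, hb'⟩
    refine ⟨fun w hw => ?_, fun w hw => ?_⟩
    · rw [Units.val_mul, ← Matrix.mulVec_mulVec]; exact ha _ (hb w hw)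
    · rw [mul_inv_rev, Units.val_mul, ← Matrix.mulVec_mulVec]; exact hb' _ (ha' w hw)
  inv_mem' := by
    rintro a ⟨ha, ha'⟩
    exact ⟨ha', by simpa using ha⟩

theorem mem_stab {W : Submodule F (Fin n → F)} {g : GL (Fin n) F} (h : ∀ w ∈ W, (g : M).mulVec w ∈ W) :
    g ∈ stab W := by
  refine ⟨h, fun w hw => ?_⟩
  let f : W →ₗ[F] W := (g : M).mulVecLin.restrict h
  have hf : Function.Injective f := fun a b e => Subtype.ext
    (Matrix.mulVec_injective_of_isUnit g.isUnit (congrArg Subtype.val e))
  obtain ⟨u, hu⟩ := LinearMap.surjective_of_injective hf ⟨w, hw⟩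
  have hu' : (g : M).mulVec u = w := congrArg Subtype.val hu
  rw [← hu', Matrix.mulVec_mulVec, Units.inv_mul, Matrix.one_mulVec]
  exact u.2

theorem center_scalar {z : GL (Fin n) F} (hz : z ∈ Subgroup.center (GL (Fin n) F)) :
    ∃ c : F, (z : M) = algebraMap F M c := by
  obtain ⟨c, hc⟩ := Matrix.GeneralLinearGroup.mem_center_iff_val_mem_range_scalar.1 hz
  exact ⟨c, hc.symm⟩

theorem center_le_stab (W : Submodule F (Fin n → F)) : Subgroup.center (GL (Fin n) F) ≤ stab W := by
  intro z hz
  refine mem_stab fun w hw => ?_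
  obtain ⟨c, hc⟩ := center_scalar hz
  rw [hc, Algebra.algebraMap_eq_smul_one, Matrix.smul_mulVec, Matrix.one_mulVec]
  exact W.smul_mem _ hw

/-- A transvection as a group element. -/
noncomputable def tr {i j : Fin n} (h : i ≠ j) : GL (Fin n) F :=
  Matrix.SpecialLinearGroup.toGL ⟨Matrix.transvection i j 1, Matrix.det_transvection_of_ne i j h 1⟩

theorem tr_mem {i j : Fin n} (h : i ≠ j) : (tr h : GL (Fin n) F) ∈ slz F n :=
  Subgroup.mem_sup_left ⟨_, rfl⟩

theorem slz_not_le_centralizer {i j : Fin n} (h : i ≠ j) (s : GL (Fin n) F)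
    (hc : ∀ a ∈ Subgroup.centralizer ({s} : Set (GL (Fin n) F)),
      ∀ b ∈ Subgroup.centralizer ({s} : Set (GL (Fin n) F)), a * b = b * a) :
    ¬ slz F n ≤ Subgroup.centralizer ({s} : Set (GL (Fin n) F)) := by
  intro hle
  have h1 := congrArg Units.val (hc _ (hle (tr_mem h)) _ (hle (tr_mem h.symm)))
  have h2 : (Matrix.transvection i j (1 : F) * Matrix.transvection j i (1 : F) : M) i i =
      (Matrix.transvection j i (1 : F) * Matrix.transvection i j (1 : F) : M) i i := congrFun (congrFun h1 i) i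
  rw [Matrix.transvection, Matrix.transvection] at h2
  simp [add_mul, mul_add, Matrix.single_mul_single_same, h.symm] at h2

theorem slz_not_le_stab {W : Submodule F (Fin n → F)} (h0 : W ≠ ⊥) (h1 : W ≠ ⊤) : ¬ slz F n ≤ stab W := by
  intro hle
  apply h1
  obtain ⟨w, hw, hw0⟩ := Submodule.exists_mem_ne_zero_of_ne_bot h0
  obtain ⟨j, hj⟩ := Function.ne_iff.1 hw0
  have hj' : w j ≠ 0 := hj
  have key : ∀ i k : Fin n, i ≠ k → ∀ v ∈ W, Pi.single i (v k) ∈ W := by
    intro i k hik v hv
    have h2 : (Matrix.transvection i k (1 : F)).mulVec v ∈ W := (hle (tr_mem hik)).1 v hv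
    have h3 : (Matrix.transvection i k (1 : F)).mulVec v = v + Pi.single i (v k) := by
      funext l
      simp [Matrix.transvection, Matrix.add_mulVec, Matrix.single_mulVec, Function.update_apply,
        Pi.single_apply]
    rw [h3] at h2
    simpa using W.sub_mem h2 hv
  have hi : ∀ i, i ≠ j → Pi.single i (1 : F) ∈ W := fun i hij => by
    have := W.smul_mem (w j)⁻¹ (key i j hij w hw)
    rwa [← Pi.single_smul', smul_eq_mul, inv_mul_cancel₀ hj'] at this
  have hall : ∀ i, Pi.single i (1 : F) ∈ W := by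
    intro i
    by_cases hij : i = j
    · subst hij
      by_cases hex : ∃ k, k ≠ i
      · obtain ⟨k, hk⟩ := hex
        have := key i k (Ne.symm hk) _ (hi k hk)
        rwa [Pi.single_eq_same] at this
      · push Not at hex
        have h4 := W.smul_mem (w i)⁻¹ hw
        convert h4 using 1
        funext k
        rw [hex k]; simp [inv_mul_cancel₀ hj']
    · exact hi i hij
  rw [eq_top_iff, ← (Pi.basisFun F (Fin n)).span_eq]
  refine Submodule.span_le.2 ?_
  rintro _ ⟨i, rfl⟩
  simpa using hall i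

/-- Proper nonzero subspaces. -/
abbrev Proper (F : Type*) [Field F] (n : ℕ) := {W : Submodule F (Fin n → F) // W ≠ ⊥ ∧ W ≠ ⊤}

/-- Singer algebras. -/
abbrev Sings (F : Type*) [Field F] (n : ℕ) := {A : Subalgebra F (Matrix (Fin n) (Fin n) F) // IsSing A}

/-- The counting argument. -/
theorem no_cover_of_separated (hn : 3 ≤ n ∨ (n = 2 ∧ 4 ≤ q))
    (G : Subgroup (GL (Fin n) F ⧸ Subgroup.center (GL (Fin n) F)))
    (hG : ((Matrix.SpecialLinearGroup.toGL : Matrix.SpecialLinearGroup (Fin n) F →* GL (Fin n) F).range).map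
      (QuotientGroup.mk' (Subgroup.center (GL (Fin n) F))) ≤ G)
    {X : Type*} [Finite X] (e : X → GL (Fin n) F) (he : Separated e)
    (hX : Nat.card (Sings F n) + Nat.card (Proper F n) < Nat.card X) :
    ¬ ∃ 𝓐 : Finset (Subgroup ↥G), ((∀ A ∈ 𝓐, A ≠ ⊤) ∧ (∀ g : ↥G, ∃ A ∈ 𝓐, g ∈ A)) ∧
      (∀ 𝓑 : Finset (Subgroup ↥G), (∀ A ∈ 𝓑, A ≠ ⊤) ∧ (∀ g : ↥G, ∃ A ∈ 𝓑, g ∈ A) → 𝓐.card ≤ 𝓑.card) ∧
      (∀ A ∈ 𝓐, Group.IsNilpotent ↥A) := by
  classical
  rintro ⟨𝓐, ⟨-, hcov⟩, hmin, hnil⟩
  set mk := QuotientGroup.mk' (Subgroup.center (GL (Fin n) F)) with hmk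
  have hslz : slz F n ≤ G.comap mk := by
    refine sup_le (Subgroup.map_le_iff_le_comap.1 hG) fun z hz => ?_
    show mk z ∈ G
    rw [hmk, QuotientGroup.mk'_apply, (QuotientGroup.eq_one_iff z).2 hz]
    exact G.one_mem
  -- the lower bound
  have hlow : Nat.card X ≤ 𝓐.card := by
    have hc : ∀ x, ∃ A : {A // A ∈ 𝓐}, mk (e x) ∈ (A : Subgroup ↥G).map G.subtype := fun x => by
      obtain ⟨A, hA, hx⟩ := hcov ⟨mk (e x), hslz (he.1 x)⟩
      exact ⟨⟨A, hA⟩, _, hx, rfl⟩
    choose c hc using hc
    rw [← Nat.card_eq_finsetCard]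
    refine Nat.card_le_card_of_injective c fun x y hxy => ?_
    set A' : Subgroup (GL (Fin n) F ⧸ Subgroup.center (GL (Fin n) F)) := ((c x : Subgroup ↥G)).map G.subtype
    haveI : Group.IsNilpotent A' := by
      haveI := hnil _ (c x).2
      exact Group.nilpotent_of_mulEquiv
        (Subgroup.equivMapOfInjective (c x : Subgroup ↥G) G.subtype (Subgroup.subtype_injective G))
    set K : Subgroup (GL (Fin n) F) := A'.comap mk
    have hKn : Group.IsNilpotent K := by
      let f : K →* A' := (mk.comp K.subtype).codRestrict A' fun k => k.2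
      refine Subgroup.isNilpotent_of_ker_le_center f (fun k hk => ?_)
      rw [MonoidHom.mem_ker] at hk
      have h1 : mk (k : GL (Fin n) F) = 1 := congrArg Subtype.val hk
      rw [hmk, QuotientGroup.mk'_apply, QuotientGroup.eq_one_iff] at h1
      rw [Subgroup.mem_center_iff]
      exact fun g => Subtype.ext (Subgroup.mem_center_iff.1 h1 g)
    refine he.2 K hKn x y (hc x) ?_
    show mk (e y) ∈ ((c x : Subgroup ↥G)).map G.subtype
    rw [hxy]; exact hc y
  -- the cover
  choose s hs using fun A : Sings F n => exists_singElem hn A.2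
  let memb : Sings F n ⊕ Proper F n → Subgroup (GL (Fin n) F) :=
    Sum.elim (fun A => Subgroup.centralizer ({s A} : Set (GL (Fin n) F))) fun W => stab W.1
  have hcen : ∀ y, Subgroup.center (GL (Fin n) F) ≤ memb y := by
    rintro (A | W)
    · exact Subgroup.center_le_centralizer _
    · exact center_le_stab _
  have hne : ∀ y, ¬ slz F n ≤ memb y := by
    obtain ⟨i, j, hij⟩ : ∃ i j : Fin n, i ≠ j := ⟨⟨0, by omega⟩, ⟨1, by omega⟩, by simp⟩
    rintro (A | W)
    · refine slz_not_le_centralizer hij _ fun a ha b hb => ?_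
      have hmem : ∀ a ∈ Subgroup.centralizer ({s A} : Set (GL (Fin n) F)), (a : M) ∈ A.1 := fun a ha =>
        (hs A).comm_mem _ (by rw [← Units.val_mul, Subgroup.mem_centralizer_singleton_iff.1 ha, Units.val_mul])
      exact Units.ext (A.2.comm _ (hmem a ha) _ (hmem b hb))
    · exact slz_not_le_stab W.2.1 W.2.2
  haveI : Finite (Subalgebra F M) := Finite.of_injective (fun A => (A : Set M)) SetLike.coe_injective
  haveI : Fintype (Sings F n ⊕ Proper F n) := Fintype.ofFinite _
  let 𝓑 : Finset (Subgroup ↥G) := Finset.univ.image fun y => ((memb y).map mk).subgroupOf G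
  have hB : (∀ A ∈ 𝓑, A ≠ ⊤) ∧ ∀ g : ↥G, ∃ A ∈ 𝓑, g ∈ A := by
    refine ⟨fun A hA htop => ?_, fun g => ?_⟩
    · obtain ⟨y, -, rfl⟩ := Finset.mem_image.1 hA
      refine hne y fun g hg => ?_
      obtain ⟨g', hg', he'⟩ := Subgroup.subgroupOf_eq_top.1 htop (hslz hg)
      have h1 : g'⁻¹ * g ∈ Subgroup.center (GL (Fin n) F) := QuotientGroup.eq.1 he'
      have h2 := (memb y).mul_mem hg' (hcen y h1)
      rwa [mul_inv_cancel_left] at h2
    · obtain ⟨x, hx⟩ := QuotientGroup.mk'_surjective _ (g : GL (Fin n) F ⧸ Subgroup.center (GL (Fin n) F))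
      suffices ∃ y, x ∈ memb y by
        obtain ⟨y, hy⟩ := this
        exact ⟨_, Finset.mem_image.2 ⟨y, Finset.mem_univ _, rfl⟩, ⟨x, hy, hx⟩⟩
      by_cases hirr : ∀ W : Submodule F (Fin n → F), (∀ w ∈ W, (x : M).mulVec w ∈ W) → W = ⊥ ∨ W = ⊤
      · obtain ⟨A, hA, hxA⟩ := exists_sing (by omega) hirr
        refine ⟨Sum.inl ⟨A, hA⟩, Subgroup.mem_centralizer_singleton_iff.2 (Units.ext ?_)⟩
        rw [Units.val_mul, Units.val_mul]
        exact hA.comm _ hxA _ (hs ⟨A, hA⟩).mem
      · push Not at hirr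
        obtain ⟨W, hW, h0, h1⟩ := hirr
        exact ⟨Sum.inr ⟨W, h0, h1⟩, mem_stab hW⟩
  have h2 : 𝓑.card ≤ Nat.card (Sings F n) + Nat.card (Proper F n) := by
    rw [← Nat.card_sum, Nat.card_eq_fintype_card]
    exact Finset.card_image_le
  have := hmin 𝓑 hB
  omega

theorem idem_absurd {A : Subalgebra F M} (S : IsSing A) {P : M} (hP : P ∈ A) (h : P * P = P) (h0 : P ≠ 0)
    (h1 : P ≠ 1) : False := by
  apply h1
  refine Matrix.ext_of_mulVec_single fun i => ?_
  have := S.inj P hP h0 ((P - 1).mulVec (Pi.single i 1)) (by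
    rw [Matrix.mulVec_mulVec, mul_sub, mul_one, h, sub_self, Matrix.zero_mulVec])
  rwa [Matrix.sub_mulVec, sub_eq_zero] at this

theorem sing_unique {A B : Subalgebra F M} (SA : IsSing A) (SB : IsSing B) {s s' : GL (Fin n) F}
    (hs : SingElem A s) (hs' : SingElem B s') {K : Subgroup (GL (Fin n) F)} (hK : Group.IsNilpotent K)
    (h : s ∈ K) (h' : s' ∈ K) : A = B := by
  have hc : ((s' : M)) * (s : M) = (s : M) * (s' : M) := by
    rw [← Units.val_mul, hs.ab s' (hs'.ord.trans hs.ord.symm) (hs.nil K hK h h'), Units.val_mul]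
  refine le_antisymm (fun a ha => ?_) (fun b hb => ?_)
  · exact hs'.comm_mem a (SA.comm a ha _ (hs.comm_mem _ hc))
  · exact hs.comm_mem b (SB.comm b hb _ (hs'.comm_mem _ hc.symm))

theorem proper_card : Nat.card (Proper F n) ≤ nSub F n :=
  Nat.card_le_card_of_injective _ Subtype.val_injective

theorem main_big (hn : 3 ≤ n) :
    ∃ (X : Type u) (_ : Finite X) (e : X → GL (Fin n) F), Separated e ∧
      Nat.card (Sings F n) + Nat.card (Proper F n) < Nat.card X := by
  classical
  choose s hs using fun A : Sings F n => exists_singElem (Or.inl hn) A.2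
  obtain ⟨t, ht, hcard⟩ := exists_split (F := F) hn
  set N := Subgroup.normalizer (Subgroup.centralizer ({t} : Set (GL (Fin n) F)) : Set (GL (Fin n) F)) with hN
  let tt : GL (Fin n) F ⧸ N → GL (Fin n) F := fun x => x.out * t * x.out⁻¹
  haveI : Finite (Subalgebra F M) := Finite.of_injective (fun A => (A : Set M)) SetLike.coe_injective
  refine ⟨Sings F n ⊕ (GL (Fin n) F ⧸ N), inferInstance, Sum.elim s tt, ⟨?_, ?_⟩, ?_⟩
  · rintro (A | x)
    · exact (hs A).mem_slz
    · exact (ht _).mem_slz
  · intro K hK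
    have hmixed : ∀ A x, s A ∈ K → tt x ∈ K → False := by
      intro A x h h'
      obtain ⟨P, hPP, hP0, hP1, hcomm⟩ := (ht x.out).idem
      refine idem_absurd A.2 ((hs A).comm_mem P ?_) hPP hP0 hP1
      exact (hcomm _ ((ht x.out).nil K hK h' h)).symm
    rintro (A | x) (B | y) h h'
    · exact congrArg Sum.inl (Subtype.ext (sing_unique A.2 B.2 (hs A) (hs B) hK h h'))
    · exact (hmixed A y h h').elim
    · exact (hmixed B x h' h).elim
    · refine congrArg Sum.inr ?_
      set g := x.out with hg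
      set g' := y.out with hg'
      have hc1 : g' * t * g'⁻¹ * (g * t * g⁻¹) = g * t * g⁻¹ * (g' * t * g'⁻¹) :=
        (ht g).ab _ (ht g').order ((ht g).nil K hK h h')
      have heq : ∀ w, w * (g * t * g⁻¹) = (g * t * g⁻¹) * w ↔ w * (g' * t * g'⁻¹) = (g' * t * g'⁻¹) * w := by
        intro w
        constructor <;> intro hw
        · exact (ht g).comm w (Subgroup.mem_centralizer_singleton_iff.2 hw) _
            (Subgroup.mem_centralizer_singleton_iff.2 hc1)
        · exact (ht g').comm w (Subgroup.mem_centralizer_singleton_iff.2 hw) _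
            (Subgroup.mem_centralizer_singleton_iff.2 hc1.symm)
      rw [← QuotientGroup.out_eq' x, ← QuotientGroup.out_eq' y, QuotientGroup.eq, ← hg, ← hg', hN,
        Subgroup.mem_normalizer_iff]
      intro w
      rw [Subgroup.mem_centralizer_singleton_iff, Subgroup.mem_centralizer_singleton_iff]
      have key : ∀ k w : GL (Fin n) F, k * w * k⁻¹ * (k * t * k⁻¹) = k * t * k⁻¹ * (k * w * k⁻¹) ↔
          w * t = t * w := by
        intro k w
        rw [show k * w * k⁻¹ * (k * t * k⁻¹) = k * (w * t) * k⁻¹ by group,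
          show k * t * k⁻¹ * (k * w * k⁻¹) = k * (t * w) * k⁻¹ by group, mul_left_inj, mul_right_inj]
      rw [← key g' w, ← heq, ← key g (g⁻¹ * g' * w * (g⁻¹ * g')⁻¹),
        show g * (g⁻¹ * g' * w * (g⁻¹ * g')⁻¹) * g⁻¹ = g' * w * g'⁻¹ by group]
  · rw [Nat.card_sum]
    have hidx : nSub F n < Nat.card (GL (Fin n) F ⧸ N) := by
      have h1 := Subgroup.card_eq_card_quotient_mul_card_subgroup N
      rw [Matrix.card_GL_field] at h1
      have h2 := count_lt F hn
      rw [glCard, h1] at h2
      by_contra hle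
      have h3 := Nat.mul_le_mul (not_lt.1 hle) hcard
      omega
    have := proper_card (F := F) (n := n)
    omega

theorem main_two (hq : 4 ≤ q) :
    ∃ (X : Type u) (_ : Finite X) (e : X → GL (Fin 2) F), Separated e ∧
      Nat.card (Sings F 2) + Nat.card (Proper F 2) < Nat.card X := by
  classical
  obtain ⟨p, hc⟩ := CharP.exists F
  have : Fact p.Prime := ⟨CharP.char_is_prime F p⟩
  choose s hs using fun A : Sings F 2 => exists_singElem (Or.inr ⟨rfl, hq⟩) A.2
  obtain ⟨a, ha⟩ := IsCyclic.exists_ofOrder_eq_natCard (α := Fˣ)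
  rw [Nat.card_units, Nat.card_eq_fintype_card] at ha
  have ha2 : a ^ 2 ≠ 1 := fun h => by
    have := Nat.le_of_dvd (by norm_num) (orderOf_dvd_of_pow_eq_one h); omega
  have hd : orderOf (dia a) ∣ q - 1 :=
    orderOf_dvd_of_pow_eq_one (dia_pow_card a _ (ha ▸ pow_orderOf_eq_one a))
  obtain ⟨k, hk⟩ : ∃ k : ℕ, q = p ^ k ∧ 0 < k := by
    obtain ⟨k, -, hk⟩ := FiniteField.card F p
    exact ⟨k, hk, k.pos⟩
  have hpq : p ∣ q := hk.1 ▸ dvd_pow_self p (by omega)
  have hp2 : ∀ m, m ∣ q ^ 2 - 1 → Nat.Coprime p m := fun m hm => by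
    refine Nat.Coprime.coprime_dvd_right hm ((Nat.Prime.coprime_iff_not_dvd Fact.out).2 fun h => ?_)
    have h2 : p ∣ q ^ 2 := dvd_pow hpq two_ne_zero
    have h3 := Nat.dvd_sub h2 h
    rw [Nat.sub_sub_self (Nat.one_le_pow _ _ (by omega))] at h3
    exact (Fact.out : p.Prime).ne_one (Nat.dvd_one.1 h3)
  let f : Option (Option F) → GL (Fin 2) F := fun o => match o with
    | none => dia a
    | some o => tv o
  haveI : Finite (Subalgebra F (Matrix (Fin 2) (Fin 2) F)) :=
    Finite.of_injective (fun A => (A : Set (Matrix (Fin 2) (Fin 2) F))) SetLike.coe_injective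
  refine ⟨Sings F 2 ⊕ Option (Option F), inferInstance, Sum.elim s f, ⟨?_, ?_⟩, ?_⟩
  · rintro (A | (_ | o))
    · exact (hs A).mem_slz
    · exact Subgroup.mem_sup_left ⟨_, rfl⟩
    · exact Subgroup.mem_sup_left ⟨_, rfl⟩
  · intro K hK
    haveI := hK
    have htd : ∀ o, dia a ∈ K → tv o ∈ K → False := by
      intro o h h'
      have hco : Commute (tv o) (dia a) := commute_of_coprime h' h (by
        rw [tv_order (p := p)]
        exact hp2 _ (hd.trans (by simpa using Nat.sub_dvd_pow_sub_pow q 1 2)))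
      obtain ⟨h01, h10⟩ := dia_comm ha2 (congrArg Units.val hco.eq)
      cases o with
      | none => simp [tv_val, tvMat, pt] at h01
      | some b => simp [tv_val, tvMat, pt] at h10
    have hts : ∀ A o, s A ∈ K → tv o ∈ K → False := by
      intro A o h h'
      have hco : Commute (tv o) (s A) := commute_of_coprime h' h (by
        rw [tv_order (p := p)]
        exact hp2 _ ((hs A).two rfl).1)
      have hmem := A.1.sub_mem ((hs A).comm_mem _ (congrArg Units.val hco.eq)) A.1.one_mem
      refine tv_ne o (Matrix.ext_of_mulVec_single fun i => ?_)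
      rw [Matrix.zero_mulVec]
      by_contra hne
      exact hne (A.2.inj _ hmem (tv_ne o) _ (by rw [Matrix.mulVec_mulVec, tv_sq, Matrix.zero_mulVec]))
    have hds : ∀ A, s A ∈ K → dia a ∈ K → False := by
      intro A h h'
      -- a diagonal element of the field is scalar
      have hscal : ∀ x ∈ A.1, x 0 1 = 0 → x 1 0 = 0 → x 0 0 = x 1 1 := by
        intro x hx h01 h10
        by_contra hne
        have hmem : x - algebraMap F (Matrix (Fin 2) (Fin 2) F) (x 0 0) ∈ A.1 :=
          A.1.sub_mem hx (A.1.algebraMap_mem _)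
        have h0 : x - algebraMap F (Matrix (Fin 2) (Fin 2) F) (x 0 0) ≠ 0 := fun e => by
          have := congrFun (congrFun e 1) 1
          simp [Matrix.algebraMap_matrix_apply, sub_eq_zero] at this
          exact hne this.symm
        have h1 := A.2.inj _ hmem h0 (Pi.single 0 1) (by
          funext i; fin_cases i <;> simp [Matrix.algebraMap_matrix_apply, h10])
        simpa using congrFun h1 0
      obtain ⟨hd1, hd2, hN⟩ := (hs A).two rfl
      rcases hN _ ((hs A).nil K hK h h') with hco | ⟨c, hc2⟩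
      · have h1 := hscal _ ((hs A).comm_mem _ (congrArg Units.val hco)) (by simp [dia_val]) (by simp [dia_val])
        simp [dia_val] at h1
        exact ha2 (by rw [pow_two]; exact mul_eq_one_iff_eq_inv.2 (Units.ext (by simpa using h1)))
      · have h4 : a ^ 4 = 1 := by
          have e0 := congrFun (congrFun hc2 0) 0
          have e1 := congrFun (congrFun hc2 1) 1
          simp [pow_two, dia_val, Matrix.mul_apply, Fin.sum_univ_two, Matrix.algebraMap_matrix_apply] at e0 e1
          have e2 : a * a = a⁻¹ * a⁻¹ := Units.ext (by simpa using e0.trans e1.symm)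
          calc a ^ 4 = (a * a) * (a * a) := by simp [pow_succ, mul_assoc]
            _ = (a * a) * (a⁻¹ * a⁻¹) := by rw [← e2]
            _ = 1 := by group
        have hq5 : q = 5 := by
          have h5 := orderOf_dvd_of_pow_eq_one h4
          rw [ha] at h5
          have h6 := Nat.le_of_dvd (by norm_num) h5
          have h7 : q - 1 = 3 ∨ q - 1 = 4 := by omega
          rcases h7 with h7 | h7
          · rw [h7] at h5; norm_num at h5
          · omega
        rw [hq5] at hd1 hd2 hd
        norm_num at hd1 hd2 hd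
        have h3 : 3 ∣ orderOf (s A) := by
          have : (3 : ℕ) ∣ 2 * orderOf (s A) := Dvd.dvd.trans (by norm_num) hd2
          exact (Nat.Coprime.dvd_of_dvd_mul_left (by norm_num) this)
        set x := s A ^ (orderOf (s A) / 3) with hx
        have hxo : orderOf x = 3 := orderOf_pow_orderOf_div (orderOf_pos _).ne' h3
        have hco : Commute x (dia a) := commute_of_coprime (K.pow_mem h _) h' (by
          rw [hxo]
          exact Nat.Coprime.coprime_dvd_right hd (by norm_num))
        obtain ⟨h01, h10⟩ := dia_comm ha2 (congrArg Units.val hco.eq)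
        have hxA : (x : Matrix (Fin 2) (Fin 2) F) ∈ A.1 := by
          rw [hx, Units.val_pow_eq_pow_val]; exact pow_mem (hs A).mem _
        have h00 := hscal _ hxA h01 h10
        set c' := (x : Matrix (Fin 2) (Fin 2) F) 0 0 with hc'
        have hxs : (x : Matrix (Fin 2) (Fin 2) F) = algebraMap F _ c' := by
          ext i j; fin_cases i <;> fin_cases j <;> simp [Matrix.algebraMap_matrix_apply, h01, h10, ← h00, ← hc']
        have hx3 : c' ^ 3 = 1 := by
          have := congrArg Units.val (pow_orderOf_eq_one x)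
          rw [hxo, Units.val_pow_eq_pow_val, hxs, ← map_pow, Units.val_one, ← map_one (algebraMap F _)] at this
          exact (algebraMap F (Matrix (Fin 2) (Fin 2) F)).injective this
        have hc0 : c' ≠ 0 := fun e => by rw [e] at hx3; simp at hx3
        have hx4 := FiniteField.pow_card_sub_one_eq_one c' hc0
        rw [hq5] at hx4
        norm_num at hx4
        rw [show (4 : ℕ) = 3 + 1 from rfl, pow_succ, hx3, one_mul] at hx4
        have : x = 1 := Units.ext (by rw [hxs, hx4, map_one, Units.val_one])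
        rw [this, orderOf_one] at hxo
        omega
    rintro (A | (_ | o)) (B | (_ | o')) h h'
    · exact congrArg Sum.inl (Subtype.ext (sing_unique A.2 B.2 (hs A) (hs B) hK h h'))
    · exact (hds A h h').elim
    · exact (hts A o' h h').elim
    · exact (hds B h' h).elim
    · rfl
    · exact (htd o' h h').elim
    · exact (hts B o h' h).elim
    · exact (htd o h' h).elim
    · exact congrArg (fun z => Sum.inr (some z)) (tv_unique (p := p) h h')
  · rw [Nat.card_sum, Finite.card_option, Finite.card_option, Nat.card_eq_fintype_card (α := F)]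
    have h1 : Nat.card (Proper F 2) + 2 ≤ nSub F 2 := by
      refine le_trans (le_of_eq ?_) (Nat.card_le_card_of_injective
        (Sum.elim (fun W : Proper F 2 => W.1) (fun b : Bool => if b then ⊤ else ⊥)) ?_)
      · rw [Nat.card_sum]; simp
      · rintro (W | b) (W' | b') hh <;> simp only [Sum.elim_inl, Sum.elim_inr] at hh
        · exact congrArg Sum.inl (Subtype.ext hh)
        · exfalso; cases b' <;> simp at hh
          · exact W.2.1 hh
          · exact W.2.2 hh
        · exfalso; cases b <;> simp at hh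
          · exact W'.2.1 hh.symm
          · exact W'.2.2 hh.symm
        · cases b <;> cases b' <;> simp_all [bot_ne_top]
    have := nSub_two F
    omega

end Cfsg.Lib.PGLCover
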