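import Mathlib

/-! Regular commutative algebras of matrices: centralisers and normalisers of a generator,
and nilpotent subgroups containing such a generator. -/

set_option autoImplicit false
set_option linter.style.haveILetI false

namespace Cfsg.Lib.PGLCover

section Grp

variable {𝔾 : Type*} [Group 𝔾]

/-- A nilpotent subgroup containing `s` normalises the centraliser `T` of `s`, provided that `T` is abelian
and every element of the normaliser of `T` with the order of `s` lies in `T`. -/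
theorem le_normalizer [Finite 𝔾] {s : 𝔾} (K : Subgroup 𝔾) [Group.IsNilpotent K] (hs : s ∈ K)
    (hab : ∀ a ∈ Subgroup.centralizer ({s} : Set 𝔾), ∀ b ∈ Subgroup.centralizer ({s} : Set 𝔾), a * b = b * a)
    (hsm : ∀ y ∈ Subgroup.normalizer (Subgroup.centralizer ({s} : Set 𝔾) : Set 𝔾), orderOf y = orderOf s →
      y ∈ Subgroup.centralizer ({s} : Set 𝔾)) :
    K ≤ Subgroup.normalizer (Subgroup.centralizer ({s} : Set 𝔾) : Set 𝔾) := by
  classical
  set T := Subgroup.centralizer ({s} : Set 𝔾) with hT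
  set N := Subgroup.normalizer (T : Set 𝔾) with hN
  have hsT : s ∈ T := Subgroup.mem_centralizer_singleton_iff.2 rfl
  have hsN : s ∈ N := Subgroup.le_normalizer hsT
  have hfix : Subgroup.normalizer ((N.subgroupOf K : Subgroup K) : Set K) = N.subgroupOf K := by
    refine le_antisymm (fun y hy => ?_) Subgroup.le_normalizer
    have h1 := (Subgroup.mem_normalizer_iff.1 hy ⟨s, hs⟩).1 (by simpa [Subgroup.mem_subgroupOf] using hsN)
    rw [Subgroup.mem_subgroupOf] at h1 ⊢
    simp only [Subgroup.coe_mul, Subgroup.coe_inv] at h1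
    set s' := (y : 𝔾) * s * (y : 𝔾)⁻¹ with hs'
    have hord : orderOf s' = orderOf s := by
      have h2 := orderOf_injective (MulAut.conj (y : 𝔾)).toMonoidHom (MulEquiv.injective _) s
      simpa [hs'] using h2
    have h3 : s' ∈ T := hsm s' h1 hord
    have himg : T.map (MulAut.conj (y : 𝔾)).toMonoidHom = T := by
      refine (Subgroup.eq_of_le_of_card_ge ?_ ?_).symm
      · intro w hw
        refine ⟨(y : 𝔾)⁻¹ * w * y, ?_, by simp; group⟩
        refine Subgroup.mem_centralizer_singleton_iff.2 ?_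
        have h4 := hab w hw s' h3
        calc (y : 𝔾)⁻¹ * w * y * s = (y : 𝔾)⁻¹ * (w * s') * y := by rw [hs']; group
          _ = (y : 𝔾)⁻¹ * (s' * w) * y := by rw [h4]
          _ = s * ((y : 𝔾)⁻¹ * w * y) := by rw [hs']; group
      · rw [Subgroup.card_map_of_injective (MulEquiv.injective _)]
    rw [Subgroup.mem_normalizer_iff_map_conj_eq]
    exact himg
  have htop : N.subgroupOf K = ⊤ := by
    by_contra h
    have hlt := Group.normalizerCondition_of_isNilpotent (N.subgroupOf K) (lt_top_iff_ne_top.2 h)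
    rw [hfix] at hlt
    exact lt_irrefl _ hlt
  exact Subgroup.subgroupOf_eq_top.1 htop

end Grp

variable {F : Type*} [Field F] {n : ℕ}

local notation "V" => (Fin n → F)
local notation "M" => Matrix (Fin n) (Fin n) F

/-- A faithful commutative algebra of matrices with the natural module free of rank one, and a generator. -/
structure RegData (F : Type*) [Field F] (n : ℕ) (R : Type*) [CommRing R] [Algebra F R] where
  φ : R →ₐ[F] Matrix (Fin n) (Fin n) F
  v0 : Fin n → F
  bij : Function.Bijective fun r => (φ r).mulVec v0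
  r0 : R
  gen : Algebra.adjoin F {r0} = ⊤
  t : GL (Fin n) F
  t_eq : (t : Matrix (Fin n) (Fin n) F) = φ r0

namespace RegData

variable {R : Type*} [CommRing R] [Algebra F R] (D : RegData F n R)

theorem inj : Function.Injective D.φ := fun a b h => D.bij.1 (show (D.φ a).mulVec D.v0 = _ by rw [h])

theorem comm_range {y : M} (h : y * D.φ D.r0 = D.φ D.r0 * y) : ∃ x, y = D.φ x := by
  have hall : ∀ r, y * D.φ r = D.φ r * y := by
    let C : Subalgebra F R := (Subalgebra.centralizer F ({y} : Set M)).comap D.φ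
    have hC : ⊤ ≤ C := by
      rw [← D.gen]
      refine Algebra.adjoin_le ?_
      rintro _ rfl
      show D.φ D.r0 ∈ Subalgebra.centralizer F ({y} : Set M)
      rw [Subalgebra.mem_centralizer_iff]
      rintro a rfl
      exact h
    intro r
    have h1 : D.φ r ∈ Subalgebra.centralizer F ({y} : Set M) := hC (Algebra.mem_top : r ∈ (⊤ : Subalgebra F R))
    rw [Subalgebra.mem_centralizer_iff] at h1
    exact h1 y rfl
  obtain ⟨x, hx⟩ := D.bij.2 (y.mulVec D.v0)
  refine ⟨x, Matrix.ext_of_mulVec_single fun i => ?_⟩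
  obtain ⟨r, hr⟩ := D.bij.2 (Pi.single i 1)
  simp only at hx hr
  rw [← hr, Matrix.mulVec_mulVec, hall r, ← Matrix.mulVec_mulVec, ← hx, Matrix.mulVec_mulVec, Matrix.mulVec_mulVec,
    ← map_mul, ← map_mul, mul_comm x r]

theorem mem_cent_iff {y : GL (Fin n) F} :
    y ∈ Subgroup.centralizer ({D.t} : Set (GL (Fin n) F)) ↔ ∃ x, (y : M) = D.φ x := by
  rw [Subgroup.mem_centralizer_singleton_iff]
  constructor
  · intro h
    refine D.comm_range ?_
    rw [← D.t_eq, ← Units.val_mul, h, Units.val_mul]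
  · rintro ⟨x, hx⟩
    refine Units.ext ?_
    rw [Units.val_mul, Units.val_mul, hx, D.t_eq, ← map_mul, ← map_mul, mul_comm]

theorem cent_comm : ∀ a ∈ Subgroup.centralizer ({D.t} : Set (GL (Fin n) F)),
    ∀ b ∈ Subgroup.centralizer ({D.t} : Set (GL (Fin n) F)), a * b = b * a := by
  intro a ha b hb
  obtain ⟨x, hx⟩ := D.mem_cent_iff.1 ha
  obtain ⟨z, hz⟩ := D.mem_cent_iff.1 hb
  refine Units.ext ?_
  rw [Units.val_mul, Units.val_mul, hx, hz, ← map_mul, ← map_mul, mul_comm]

theorem card_cent : Nat.card (Subgroup.centralizer ({D.t} : Set (GL (Fin n) F))) = Nat.card Rˣ := by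
  refine (Nat.card_congr (Equiv.ofBijective (fun x : Rˣ => (⟨Units.map D.φ.toRingHom.toMonoidHom x,
    D.mem_cent_iff.2 ⟨x, rfl⟩⟩ : Subgroup.centralizer ({D.t} : Set (GL (Fin n) F)))) ⟨?_, ?_⟩)).symm
  · intro a b h
    exact Units.ext (D.inj (congrArg (fun z : Subgroup.centralizer ({D.t} : Set (GL (Fin n) F)) =>
      ((z : GL (Fin n) F) : M)) h))
  · rintro ⟨y, hy⟩
    obtain ⟨x, hx⟩ := D.mem_cent_iff.1 hy
    obtain ⟨z, hz⟩ := D.mem_cent_iff.1 (inv_mem hy)
    have h1 : x * z = 1 := D.inj (by rw [map_mul, map_one, ← hx, ← hz, ← Units.val_mul, mul_inv_cancel, Units.val_one])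
    exact ⟨⟨x, z, h1, by rw [mul_comm]; exact h1⟩, Subtype.ext (Units.ext hx.symm)⟩

/-- Conjugation by a unit as an algebra endomorphism. -/
def conjHom (y : GL (Fin n) F) : M →ₐ[F] M :=
  AlgHom.ofLinearMap
    { toFun := fun m => (y : M) * m * ((y⁻¹ : GL (Fin n) F) : M)
      map_add' := fun a b => by rw [mul_add, add_mul]
      map_smul' := fun c a => by simp }
    (by simp)
    (fun a b => by
      show (y : M) * (a * b) * _ = (y : M) * a * _ * ((y : M) * b * _)
      simp [mul_assoc])

theorem conjHom_apply (y : GL (Fin n) F) (m : M) :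
    conjHom y m = (y : M) * m * ((y⁻¹ : GL (Fin n) F) : M) := rfl

/-- A normalising element induces an automorphism. -/
theorem exists_aut {y : GL (Fin n) F}
    (hy : y ∈ Subgroup.normalizer (Subgroup.centralizer ({D.t} : Set (GL (Fin n) F)) : Set (GL (Fin n) F))) :
    ∃ σ : R ≃ₐ[F] R, ∀ r, (y : M) * D.φ r = D.φ (σ r) * (y : M) := by
  haveI : Module.Finite F R :=
    Module.Finite.of_injective D.φ.toLinearMap D.inj
  set c := (conjHom y).comp D.φ with hc
  have hsub : ⊤ ≤ D.φ.range.comap c := by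
    rw [← D.gen]
    refine Algebra.adjoin_le ?_
    rintro _ rfl
    have h1 := (Subgroup.mem_normalizer_iff.1 hy D.t).1 (Subgroup.mem_centralizer_singleton_iff.2 rfl)
    obtain ⟨x, hx⟩ := D.mem_cent_iff.1 h1
    refine ⟨x, ?_⟩
    show D.φ x = conjHom y (D.φ D.r0)
    rw [conjHom_apply, ← hx, Units.val_mul, Units.val_mul, D.t_eq]
  have hr : ∀ r, c r ∈ D.φ.range := fun r => hsub (Algebra.mem_top : r ∈ (⊤ : Subalgebra F R))
  let σ₀ : R →ₐ[F] R := (AlgEquiv.ofInjective D.φ D.inj).symm.toAlgHom.comp (c.codRestrict _ hr)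
  have hσ₀ : ∀ r, D.φ (σ₀ r) = c r := fun r => by
    exact congrArg Subtype.val ((AlgEquiv.ofInjective D.φ D.inj).apply_symm_apply (c.codRestrict _ hr r))
  have hi : Function.Injective σ₀ := fun a b h => by
    apply D.inj
    have h1 : c a = c b := by rw [← hσ₀, ← hσ₀, h]
    simp only [hc, AlgHom.comp_apply, conjHom_apply] at h1
    exact (Units.mul_right_inj _).1 ((Units.mul_left_inj _).1 h1)
  refine ⟨AlgEquiv.ofBijective σ₀ ⟨hi, LinearMap.surjective_of_injective (f := σ₀.toLinearMap) hi⟩, fun r => ?_⟩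
  show _ = D.φ (σ₀ r) * _
  rw [hσ₀, hc, AlgHom.comp_apply, conjHom_apply, Units.inv_mul_cancel_right]

theorem aut_pow {y : GL (Fin n) F} {σ : R ≃ₐ[F] R} (h : ∀ r, (y : M) * D.φ r = D.φ (σ r) * (y : M)) (k : ℕ) :
    ∀ r, ((y ^ k : GL (Fin n) F) : M) * D.φ r = D.φ ((σ ^ k) r) * ((y ^ k : GL (Fin n) F) : M) := by
  induction k with
  | zero => intro r; simp
  | succ k ih =>
    intro r
    rw [pow_succ', pow_succ', Units.val_mul, AlgEquiv.mul_apply, mul_assoc, ih, ← mul_assoc, h, mul_assoc]

/-- An element of the normaliser outside the torus has a power in the torus fixed by its automorphism. -/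
theorem normal_cases {y : GL (Fin n) F}
    (hy : y ∈ Subgroup.normalizer (Subgroup.centralizer ({D.t} : Set (GL (Fin n) F)) : Set (GL (Fin n) F))) :
    y ∈ Subgroup.centralizer ({D.t} : Set (GL (Fin n) F)) ∨
      ∃ σ : R ≃ₐ[F] R, σ ≠ 1 ∧ ∃ x, IsUnit x ∧ σ x = x ∧ ((y ^ orderOf σ : GL (Fin n) F) : M) = D.φ x := by
  obtain ⟨σ, hσ⟩ := D.exists_aut hy
  by_cases h1 : σ = 1
  · left
    rw [Subgroup.mem_centralizer_singleton_iff]
    refine Units.ext ?_
    rw [Units.val_mul, Units.val_mul, D.t_eq, hσ, h1, AlgEquiv.one_apply]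
  · refine Or.inr ⟨σ, h1, ?_⟩
    have hcomm := D.aut_pow hσ (orderOf σ)
    rw [pow_orderOf_eq_one] at hcomm
    have hmem : y ^ orderOf σ ∈ Subgroup.centralizer ({D.t} : Set (GL (Fin n) F)) := by
      rw [Subgroup.mem_centralizer_singleton_iff]
      refine Units.ext ?_
      rw [Units.val_mul, Units.val_mul, D.t_eq]
      exact hcomm D.r0
    obtain ⟨x, hx⟩ := D.mem_cent_iff.1 hmem
    obtain ⟨z, hz⟩ := D.mem_cent_iff.1 (inv_mem hmem)
    refine ⟨x, IsUnit.of_mul_eq_one z (D.inj ?_), D.inj ?_, hx⟩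
    · rw [map_mul, map_one, ← hx, ← hz, ← Units.val_mul, mul_inv_cancel, Units.val_one]
    · have h2 := hσ x
      rw [← hx, ← Units.val_mul, (Commute.self_pow y (orderOf σ)).eq, Units.val_mul] at h2
      exact (Units.mul_left_inj _).1 (h2.symm.trans (by rw [hx]))

/-- Bound on the normaliser. -/
theorem card_normalizer_le [Finite R] :
    Nat.card (Subgroup.normalizer (Subgroup.centralizer ({D.t} : Set (GL (Fin n) F)) : Set (GL (Fin n) F)))
      ≤ Nat.card (R ≃ₐ[F] R) * Nat.card Rˣ := by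
  classical
  haveI : Finite (R ≃ₐ[F] R) := Finite.of_injective (fun e : R ≃ₐ[F] R => (e : R → R)) DFunLike.coe_injective
  set N := Subgroup.normalizer (Subgroup.centralizer ({D.t} : Set (GL (Fin n) F)) : Set (GL (Fin n) F)) with hN
  let f : N → R ≃ₐ[F] R := fun y => (D.exists_aut y.2).choose
  have hf : ∀ y : N, ∀ r, ((y : GL (Fin n) F) : M) * D.φ r = D.φ (f y r) * ((y : GL (Fin n) F) : M) :=
    fun y => (D.exists_aut y.2).choose_spec
  let rep : (R ≃ₐ[F] R) → N := fun σ => if h : ∃ y, f y = σ then h.choose else 1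
  have key : ∀ y : N, ((rep (f y) : N) : GL (Fin n) F)⁻¹ * y ∈ Subgroup.centralizer ({D.t} : Set (GL (Fin n) F)) := by
    intro y
    have he : f (rep (f y)) = f y := by
      simp only [rep, dif_pos (show ∃ z, f z = f y from ⟨y, rfl⟩)]
      exact Exists.choose_spec (⟨y, rfl⟩ : ∃ z, f z = f y)
    rw [Subgroup.mem_centralizer_singleton_iff, mul_assoc, inv_mul_eq_iff_eq_mul]
    refine Units.ext ?_
    have h1 := hf y D.r0
    have h2 := hf (rep (f y)) D.r0
    rw [he] at h2
    set a : GL (Fin n) F := ((rep (f y) : N) : GL (Fin n) F)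
    rw [Units.val_mul, Units.val_mul, Units.val_mul, D.t_eq, h1, ← mul_assoc (a : M),
      h2, mul_assoc, ← Units.val_mul, mul_inv_cancel_left]
  let g : N → (R ≃ₐ[F] R) × Subgroup.centralizer ({D.t} : Set (GL (Fin n) F)) := fun y => (f y, ⟨_, key y⟩)
  haveI : Finite Rˣ := Finite.of_injective (Units.val) Units.val_injective
  haveI : Finite (Subgroup.centralizer ({D.t} : Set (GL (Fin n) F))) :=
    Nat.finite_of_card_ne_zero (by rw [D.card_cent]; exact Nat.card_pos.ne')
  refine le_trans (Nat.card_le_card_of_injective g ?_) (by rw [Nat.card_prod, D.card_cent])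
  intro a b hab
  have h1 : f a = f b := congrArg Prod.fst hab
  have h2 := congrArg (fun p : (R ≃ₐ[F] R) × Subgroup.centralizer ({D.t} : Set (GL (Fin n) F)) =>
    (p.2 : GL (Fin n) F)) hab
  simp only [g] at h2
  rw [h1] at h2
  exact Subtype.ext (mul_left_cancel h2)

/-- Transport along conjugation. -/
def conj (g : GL (Fin n) F) : RegData F n R where
  φ := (conjHom g).comp D.φ
  v0 := (g : M).mulVec D.v0
  bij := by
    have : (fun r => ((conjHom g).comp D.φ r).mulVec ((g : M).mulVec D.v0)) =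
        (g : M).mulVec ∘ fun r => (D.φ r).mulVec D.v0 := by
      funext r
      simp only [AlgHom.comp_apply, conjHom_apply, Function.comp, Matrix.mulVec_mulVec]
      rw [Units.inv_mul_cancel_right]
    rw [this]
    refine Function.Bijective.comp ⟨?_, ?_⟩ D.bij
    · exact Matrix.mulVec_injective_of_isUnit g.isUnit
    · intro w
      exact ⟨((g⁻¹ : GL (Fin n) F) : M).mulVec w, by rw [Matrix.mulVec_mulVec, Units.mul_inv, Matrix.one_mulVec]⟩
  r0 := D.r0
  gen := D.gen
  t := g * D.t * g⁻¹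
  t_eq := by rw [Units.val_mul, Units.val_mul, D.t_eq]; rfl

end RegData

end Cfsg.Lib.PGLCover
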