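import Cfsg.Agent.PGLCover.Reg
import Cfsg.Agent.PGLCover.Fields

/-! Singer tori of `GL_n` over a finite field. -/

set_option autoImplicit false
set_option linter.style.haveILetI false

namespace Cfsg.Lib.PGLCover

universe u

variable {F : Type u} [Field F] [Fintype F] {n : ℕ}

local notation "q" => Fintype.card F
local notation "M" => Matrix (Fin n) (Fin n) F

/-- The subgroup generated by the scalars and the special linear group. -/
def slz (F : Type u) [Field F] (n : ℕ) : Subgroup (GL (Fin n) F) :=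
  (Matrix.SpecialLinearGroup.toGL : Matrix.SpecialLinearGroup (Fin n) F →* GL (Fin n) F).range ⊔
    Subgroup.center (GL (Fin n) F)

omit [Fintype F] in
theorem mem_slz_of_det {g : GL (Fin n) F} (h : (g : M).det = 1) : g ∈ slz F n :=
  Subgroup.mem_sup_left ⟨⟨g, h⟩, Units.ext rfl⟩

omit [Fintype F] in
theorem scalar_mem_center {g : GL (Fin n) F} {c : F} (h : (g : M) = algebraMap F M c) :
    g ∈ Subgroup.center (GL (Fin n) F) := by
  rw [Subgroup.mem_center_iff]
  intro y
  refine Units.ext ?_
  rw [Units.val_mul, Units.val_mul, h]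
  exact (Algebra.commutes c (y : M)).symm

/-- A field of matrices of full degree. -/
structure IsSing (A : Subalgebra F M) : Prop where
  comm : ∀ a ∈ A, ∀ b ∈ A, a * b = b * a
  inj : ∀ a ∈ A, a ≠ 0 → ∀ v : Fin n → F, a.mulVec v = 0 → v = 0
  dim : Module.finrank F A = n

/-- The chosen element of a Singer torus. -/
structure SingElem (A : Subalgebra F M) (s : GL (Fin n) F) : Prop where
  mem : (s : M) ∈ A
  mem_slz : s ∈ slz F n
  comm_mem : ∀ y : M, y * (s : M) = (s : M) * y → y ∈ A
  nil : ∀ K : Subgroup (GL (Fin n) F), Group.IsNilpotent K → s ∈ K →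
    K ≤ Subgroup.normalizer (Subgroup.centralizer ({s} : Set (GL (Fin n) F)) : Set (GL (Fin n) F))
  ab : ∀ y : GL (Fin n) F, orderOf y = orderOf s →
    y ∈ Subgroup.normalizer (Subgroup.centralizer ({s} : Set (GL (Fin n) F)) : Set (GL (Fin n) F)) →
      y * s = s * y
  two : n = 2 → orderOf s ∣ q ^ 2 - 1 ∧ q ^ 2 - 1 ∣ 2 * orderOf s ∧
    ∀ y ∈ Subgroup.normalizer (Subgroup.centralizer ({s} : Set (GL (Fin n) F)) : Set (GL (Fin n) F)),
      y * s = s * y ∨ ∃ c : F, ((y ^ 2 : GL (Fin n) F) : M) = algebraMap F M c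
  big : 3 ≤ n → orderOf s = (q ^ n - 1) / (q - 1)
  ord : orderOf s = (q ^ n - 1) / Nat.gcd (q ^ n - 1) (if n = 2 then 2 else q - 1)

theorem exists_singElem (hn : 3 ≤ n ∨ (n = 2 ∧ 4 ≤ q)) {A : Subalgebra F M} (S : IsSing A) :
    ∃ s, SingElem A s := by
  classical
  have hn1 : 0 < n := by omega
  haveI : Nonempty (Fin n) := ⟨⟨0, hn1⟩⟩
  haveI : Finite A := inferInstance
  letI : CommRing A := { (inferInstance : Ring A) with mul_comm := fun a b => Subtype.ext (S.comm a a.2 b b.2) }
  haveI : NoZeroDivisors A := ⟨fun {a b} hab => by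
    by_cases ha : a = 0
    · exact Or.inl ha
    right
    refine Subtype.ext (Matrix.ext_of_mulVec_single fun i => ?_)
    refine (S.inj a a.2 (fun h => ha (Subtype.ext h)) _ ?_).trans (Matrix.zero_mulVec _).symm
    rw [Matrix.mulVec_mulVec]
    have h0 : (a : M) * (b : M) = 0 := congrArg Subtype.val hab
    rw [h0, Matrix.zero_mulVec]⟩
  haveI : IsDomain A := NoZeroDivisors.to_isDomain A
  letI : Field A := (Finite.isField_of_domain A).toField
  haveI : Module.Finite F A := Module.Finite.of_finite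
  have hcardA : Nat.card A = q ^ n := by
    rw [Module.natCard_eq_pow_finrank (K := F), Nat.card_eq_fintype_card, S.dim]
  obtain ⟨u, hu⟩ := IsCyclic.exists_ofOrder_eq_natCard (α := (A)ˣ)
  rw [Nat.card_units, hcardA] at hu
  set e := if n = 2 then 2 else q - 1 with he
  have hq2 : 2 ≤ q := Fintype.one_lt_card
  have he0 : 1 ≤ e := by rw [he]; split_ifs <;> omega
  set v0 : Fin n → F := Pi.single ⟨0, hn1⟩ 1 with hv0
  have hv0' : v0 ≠ 0 := fun h => by simpa [hv0] using congrFun h ⟨0, hn1⟩
  have hbij : Function.Bijective fun r : A => (r : M).mulVec v0 := by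
    let ev : A →ₗ[F] (Fin n → F) := (Matrix.mulVecBilin F F).flip v0 ∘ₗ A.val.toLinearMap
    have hev : Function.Injective ev := by
      rw [injective_iff_map_eq_zero]
      intro k hk
      by_contra hk0
      exact hv0' (S.inj k k.2 (fun h => hk0 (Subtype.ext h)) v0 hk)
    exact ⟨hev, (LinearMap.injective_iff_surjective_of_finrank_eq_finrank
      (by rw [S.dim, Module.finrank_fintype_fun_eq_card, Fintype.card_fin])).mp hev⟩
  set s : GL (Fin n) F := Units.map A.val.toRingHom.toMonoidHom (u ^ e) with hs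
  have hords : orderOf s = (q ^ n - 1) / Nat.gcd (q ^ n - 1) e := by
    rw [hs, orderOf_injective (Units.map A.val.toRingHom.toMonoidHom)
      (Units.map_injective Subtype.val_injective), orderOf_pow' u (by omega), hu]
  have hdvd : q - 1 ∣ q ^ n - 1 := by simpa using Nat.sub_dvd_pow_sub_pow q 1 n
  have hbig : 3 ≤ n → orderOf s = (q ^ n - 1) / (q - 1) := fun h3 => by
    rw [hords, he, if_neg (by omega), Nat.gcd_eq_right hdvd]
  have htwo : n = 2 → orderOf s ∣ q ^ 2 - 1 ∧ q ^ 2 - 1 ∣ 2 * orderOf s := by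
    intro h2
    rw [hords, he, if_pos h2, show q ^ 2 - 1 = q ^ n - 1 by rw [h2]]
    have hg : Nat.gcd (q ^ n - 1) 2 ∣ q ^ n - 1 := Nat.gcd_dvd_left _ _
    refine ⟨Nat.div_dvd_of_dvd hg, ?_⟩
    conv_lhs => rw [← Nat.div_mul_cancel hg]
    rw [mul_comm 2 _]
    exact Nat.mul_dvd_mul_left _ (Nat.gcd_dvd_right _ _)
  have hlow : q ^ (n - 1) ≤ orderOf s ∧ (n = 2 → 2 * (q - 1) < orderOf s) := by
    refine ⟨?_, fun h2 => ?_⟩
    · rcases hn with h3 | ⟨h2, h4⟩
      · rw [hbig h3, Nat.le_div_iff_mul_le (by omega), Nat.mul_sub_one]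
        have h5 : q ^ n = q ^ (n - 1) * q := by rw [← pow_succ]; congr 1; omega
        have := Nat.one_le_pow (n - 1) q (by omega)
        omega
      · obtain ⟨-, hd⟩ := htwo h2
        have hpos : 0 < orderOf s := orderOf_pos s
        have := Nat.le_of_dvd (by omega) hd
        have h6 : 4 * q ≤ q * q := Nat.mul_le_mul_right q h4
        rw [show n - 1 = 1 by omega, pow_one]
        rw [pow_two] at this; omega
    · obtain ⟨-, hd⟩ := htwo h2
      have h4 : 4 ≤ q := by omega
      have hpos : 0 < orderOf s := orderOf_pos s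
      have := Nat.le_of_dvd (by omega) hd
      have h6 : 4 * q ≤ q * q := Nat.mul_le_mul_right q h4
      rw [pow_two] at this; omega
  have hne : ((u ^ e : (A)ˣ) : A) ≠ 0 := Units.ne_zero _
  let D : RegData F n A :=
    { φ := A.val
      v0 := v0
      bij := hbij
      r0 := ((u ^ e : (A)ˣ) : A)
      gen := by
        refine adjoin_eq_top hne (N := orderOf s) ?_ (by rw [S.dim]; exact hlow.1)
        rw [hs, orderOf_injective (Units.map A.val.toRingHom.toMonoidHom)
          (Units.map_injective Subtype.val_injective), orderOf_units]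
      t := s
      t_eq := rfl }
  have hsmall : ∀ y ∈ Subgroup.normalizer (Subgroup.centralizer ({s} : Set (GL (Fin n) F)) : Set (GL (Fin n) F)),
      y ∈ Subgroup.centralizer ({s} : Set (GL (Fin n) F)) ∨ (orderOf y < orderOf s ∧
        (n = 2 → ∃ c : F, ((y ^ 2 : GL (Fin n) F) : M) = algebraMap F M c)) := by
    intro y hy
    rcases D.normal_cases hy with h | ⟨σ, hσ, x, hx, hfix, hpow⟩
    · exact Or.inl h
    obtain ⟨d, hd, hm, hmd, hxd⟩ := aut_small σ hσ
    rw [S.dim] at hmd
    have hx1 := hxd x hx.ne_zero hfix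
    have hy1 : y ^ (orderOf σ * (q ^ d - 1)) = 1 := by
      refine Units.ext ?_
      rw [pow_mul, Units.val_pow_eq_pow_val, hpow, ← map_pow, hx1, map_one, Units.val_one]
    have hle : orderOf y ≤ orderOf σ * (q ^ d - 1) := by
      refine orderOf_le_of_pow_eq_one (Nat.mul_pos (by omega) ?_) hy1
      have : 2 ≤ q ^ d := le_trans hq2 (Nat.le_self_pow (by omega) q)
      omega
    refine Or.inr ⟨?_, fun h2 => ?_⟩
    · rcases hn with h3 | ⟨h2, -⟩
      · rw [hbig h3]; exact lt_of_le_of_lt hle (torus_bound hq2 hm hd hmd h3)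
      · have h7 : orderOf σ = 2 ∧ d = 1 := by
          have := Nat.le_mul_of_pos_right (orderOf σ) hd
          have h8 : orderOf σ = 2 := by omega
          exact ⟨h8, by rw [h8] at hmd; omega⟩
        rw [h7.1, h7.2, pow_one] at hle
        exact lt_of_le_of_lt hle (hlow.2 h2)
    · have h7 : orderOf σ = 2 ∧ d = 1 := by
        have := Nat.le_mul_of_pos_right (orderOf σ) hd
        have h8 : orderOf σ = 2 := by omega
        exact ⟨h8, by rw [h8] at hmd; omega⟩
      rw [h7.2, pow_one] at hx1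
      have hxq : x ^ q = x := by rw [show q = q - 1 + 1 by omega, pow_succ, hx1, one_mul]
      obtain ⟨c, hc⟩ := mem_base hxq
      refine ⟨c, ?_⟩
      rw [← h7.1, hpow, ← hc]; rfl
  refine ⟨s, ⟨((u ^ e : (A)ˣ) : A).2, ?_, fun y hy => ?_, fun K hK hsK => ?_, fun y ho hy => ?_, fun h2 => ?_, hbig, hords⟩⟩
  · rw [hs, he]
    split_ifs with h2
    · have hmul : u ^ 2 = (u ^ (q - 1))⁻¹ * u ^ (q + 1) := by
        rw [eq_inv_mul_iff_mul_eq, ← pow_add]; congr 1; omega
      rw [hmul, map_mul, map_inv]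
      refine mul_mem (inv_mem (mem_slz_of_det ?_)) (Subgroup.mem_sup_right ?_)
      · rw [map_pow, Units.val_pow_eq_pow_val, Matrix.det_pow]
        exact FiniteField.pow_card_sub_one_eq_one _ (Matrix.isUnit_iff_isUnit_det _ |>.1 (Units.isUnit _)).ne_zero
      · have hq : (((u ^ (q + 1) : (A)ˣ) : A)) ^ q = ((u ^ (q + 1) : (A)ˣ) : A) := by
          rw [← Units.val_pow_eq_pow_val, ← pow_mul]
          congr 1
          rw [show (q + 1) * q = q ^ n - 1 + (q + 1) by rw [h2, add_mul, one_mul, pow_two]; have := Nat.mul_pos (show 0 < q by omega) (show 0 < q by omega); omega,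
            pow_add, ← hu, pow_orderOf_eq_one, one_mul]
        obtain ⟨c, hc⟩ := mem_base hq
        refine scalar_mem_center (c := c) ?_
        show ((((u ^ (q + 1) : (A)ˣ) : A)) : M) = _
        rw [← hc]; rfl
    · refine mem_slz_of_det ?_
      rw [map_pow, Units.val_pow_eq_pow_val, Matrix.det_pow]
      exact FiniteField.pow_card_sub_one_eq_one _ (Matrix.isUnit_iff_isUnit_det _ |>.1 (Units.isUnit _)).ne_zero
  · obtain ⟨x, hx⟩ := D.comm_range hy
    rw [hx]; exact x.2
  · haveI := hK
    refine le_normalizer K hsK D.cent_comm fun y hy ho => ?_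
    rcases hsmall y hy with h | ⟨h, -⟩
    · exact h
    · omega
  · rcases hsmall y hy with h | ⟨h, -⟩
    · exact Subgroup.mem_centralizer_singleton_iff.1 h
    · omega
  · refine ⟨(htwo h2).1, (htwo h2).2, fun y hy => ?_⟩
    rcases hsmall y hy with h | ⟨-, h⟩
    · exact Or.inl (Subgroup.mem_centralizer_singleton_iff.1 h)
    · exact Or.inr (h h2)

omit [Fintype F] in
/-- A matrix with no invariant subspace lies in a field of matrices of full degree. -/
theorem exists_sing (hn : 0 < n) {g : M}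
    (hg : ∀ W : Submodule F (Fin n → F), (∀ w ∈ W, g.mulVec w ∈ W) → W = ⊥ ∨ W = ⊤) :
    ∃ A : Subalgebra F M, IsSing A ∧ g ∈ A := by
  classical
  set A := Algebra.adjoin F ({g} : Set M) with hA
  have hgA : g ∈ A := Algebra.self_mem_adjoin_singleton F g
  have hcomm : ∀ a ∈ A, ∀ b ∈ A, a * b = b * a := by
    intro a ha b hb
    have h1 : ∀ c ∈ A, c * g = g * c := fun c hc => by
      induction hc using Algebra.adjoin_induction with
      | mem x hx => rw [Set.mem_singleton_iff.1 hx]
      | algebraMap r => exact Algebra.commutes r g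
      | add x y _ _ hx hy => rw [add_mul, mul_add, hx, hy]
      | mul x y _ _ hx hy => rw [mul_assoc, hy, ← mul_assoc, hx, mul_assoc]
    induction hb using Algebra.adjoin_induction with
    | mem x hx => rw [Set.mem_singleton_iff.1 hx, h1 a ha]
    | algebraMap r => exact (Algebra.commutes r a).symm
    | add x y _ _ hx hy => rw [add_mul, mul_add, hx, hy]
    | mul x y _ _ hx hy => rw [← mul_assoc, hx, mul_assoc, hy, mul_assoc]
  have hinj : ∀ a ∈ A, a ≠ 0 → ∀ v : Fin n → F, a.mulVec v = 0 → v = 0 := by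
    intro a ha ha0 v hv
    rcases hg (LinearMap.ker a.mulVecLin) (fun w hw => by
      rw [LinearMap.mem_ker, Matrix.mulVecLin_apply] at hw ⊢
      rw [Matrix.mulVec_mulVec, hcomm a ha g hgA, ← Matrix.mulVec_mulVec, hw, Matrix.mulVec_zero]) with h | h
    · have hmem : v ∈ LinearMap.ker a.mulVecLin := by simpa using hv
      rw [h] at hmem; simpa using hmem
    · refine absurd (Matrix.ext_of_mulVec_single fun i => ?_) ha0
      have hmem : Pi.single i (1 : F) ∈ LinearMap.ker a.mulVecLin := h ▸ trivial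
      rw [LinearMap.mem_ker, Matrix.mulVecLin_apply] at hmem
      rw [hmem, Matrix.zero_mulVec]
  refine ⟨A, ⟨hcomm, hinj, ?_⟩, hgA⟩
  set v0 : Fin n → F := Pi.single ⟨0, hn⟩ 1 with hv0
  have hv0' : v0 ≠ 0 := fun h => by simpa [hv0] using congrFun h ⟨0, hn⟩
  let ev : A →ₗ[F] (Fin n → F) := (Matrix.mulVecBilin F F).flip v0 ∘ₗ A.val.toLinearMap
  have hev : Function.Injective ev := by
    rw [injective_iff_map_eq_zero]
    intro k hk
    by_contra hk0
    exact hv0' (hinj k k.2 (fun h => hk0 (Subtype.ext h)) v0 hk)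
  have hrange : LinearMap.range ev = ⊤ := by
    rcases hg (LinearMap.range ev) (fun w hw => by
      obtain ⟨a, rfl⟩ := hw
      exact ⟨⟨g, hgA⟩ * a, by simp [ev, Matrix.mulVec_mulVec]⟩) with h | h
    · exfalso
      have h1 : ev 1 ∈ LinearMap.range ev := ⟨1, rfl⟩
      rw [h, Submodule.mem_bot] at h1
      exact hv0' (by simpa [ev] using h1)
    · exact h
  rw [(LinearEquiv.ofBijective ev ⟨hev, LinearMap.range_eq_top.1 hrange⟩).finrank_eq,
    Module.finrank_fintype_fun_eq_card, Fintype.card_fin]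

end Cfsg.Lib.PGLCover
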