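import Cfsg.Agent.PGLCover.Singer

/-! The torus `GF(q^r)^× × GF(q)^×` of `GL_{r+1}` over a finite field. -/

set_option autoImplicit false
set_option linter.style.haveILetI false

namespace Cfsg.Lib.PGLCover

variable {F : Type*} [Field F] {E : Type*} [Field E] [Algebra F E]

/-- The first component of an automorphism of `E × F` fixing the idempotents. -/
theorem aut_fixes [FiniteDimensional F E] (hr : 2 ≤ Module.finrank F E) (σ : (E × F) ≃ₐ[F] (E × F)) :
    σ (1, 0) = (1, 0) ∧ σ (0, 1) = (0, 1) := by
  have hid : σ (1, 0) * σ (1, 0) = σ (1, 0) := by rw [← map_mul]; simp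
  obtain ⟨a, b, hab⟩ : ∃ a b, σ (1, 0) = (a, b) := ⟨_, _, rfl⟩
  rw [hab, Prod.mk_mul_mk, Prod.mk.injEq] at hid
  have ha : a = 0 ∨ a = 1 := by
    rcases eq_or_ne a 0 with h | h
    · exact Or.inl h
    · exact Or.inr (mul_left_cancel₀ h (by rw [mul_one]; exact hid.1))
  have hb : b = 0 ∨ b = 1 := by
    rcases eq_or_ne b 0 with h | h
    · exact Or.inl h
    · exact Or.inr (mul_left_cancel₀ h (by rw [mul_one]; exact hid.2))
  have h10 : σ (1, 0) = (1, 0) := by
    rcases ha with rfl | rfl <;> rcases hb with rfl | rfl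
    · exfalso
      have : ((1 : E), (0 : F)) = 0 := σ.injective (by rw [hab, map_zero]; rfl)
      simp at this
    · exfalso
      -- `E × 0` would embed linearly into `0 × F`
      have hmap : ∀ e : E, (σ (e, 0)).1 = 0 := fun e => by
        have : σ (e, 0) = σ (e, 0) * ((0 : E), (1 : F)) := by
          rw [← hab, ← map_mul]; simp
        rw [this]; simp
      let L : E →ₗ[F] F := (LinearMap.snd F E F).comp (σ.toLinearMap.comp (LinearMap.inl F E F))
      have hL : Function.Injective L := by
        intro x y h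
        have : σ (x, 0) = σ (y, 0) := Prod.ext (by rw [hmap, hmap]) h
        exact (Prod.mk.inj (σ.injective this)).1
      have := LinearMap.finrank_le_finrank_of_injective hL
      rw [Module.finrank_self] at this
      omega
    · exact hab
    · exfalso
      have : ((1 : E), (0 : F)) = 1 := σ.injective (by rw [hab, map_one]; rfl)
      simp [Prod.ext_iff] at this
  refine ⟨h10, ?_⟩
  have h : ((0 : E), (1 : F)) = 1 - (1, 0) := by simp [Prod.ext_iff]
  rw [h, map_sub, map_one, h10]

theorem aut_apply [FiniteDimensional F E] (hr : 2 ≤ Module.finrank F E) (σ : (E × F) ≃ₐ[F] (E × F)) (x : E)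
    (c : F) : σ (x, c) = ((σ (x, 0)).1, c) := by
  obtain ⟨h1, h2⟩ := aut_fixes hr σ
  have hx : σ (x, 0) = σ (x, 0) * ((1 : E), (0 : F)) := by rw [← h1, ← map_mul]; simp
  have hc : σ (0, c) = (0, c) := by
    rw [show ((0 : E), c) = c • ((0 : E), (1 : F)) by simp, map_smul, h2]
  have hsnd : (σ (x, 0)).2 = 0 := by rw [hx]; simp
  rw [show (x, c) = (x, (0 : F)) + (0, c) by simp, map_add, hc]
  refine Prod.ext ?_ ?_ <;> simp [hsnd]

/-- The restriction to the first factor. -/
noncomputable def restr [FiniteDimensional F E] (hr : 2 ≤ Module.finrank F E) :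
    ((E × F) ≃ₐ[F] (E × F)) →* (E ≃ₐ[F] E) :=
  MonoidHom.mk' (fun σ => AlgEquiv.ofBijective
      (AlgHom.mk'
        { toFun := fun x => (σ (x, 0)).1
          map_one' := by rw [(aut_fixes hr σ).1]
          map_mul' := fun x y => by
            rw [← Prod.fst_mul, ← map_mul]; simp
          map_zero' := by rw [Prod.mk_zero_zero, map_zero, Prod.fst_zero]
          map_add' := fun x y => by rw [← Prod.fst_add, ← map_add]; simp }
        (fun c x => by
          show (σ (c • x, 0)).1 = c • (σ (x, 0)).1
          rw [← Prod.smul_fst, ← map_smul]; simp))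
      (AlgHom.bijective _))
    (fun σ τ => by
      refine AlgEquiv.ext fun x => ?_
      show (σ (τ (x, 0))).1 = (σ ((τ (x, 0)).1, 0)).1
      conv_lhs => rw [show τ (x, 0) = ((τ (x, 0)).1, (0 : F)) from aut_apply hr τ x 0])

theorem restr_apply [FiniteDimensional F E] (hr : 2 ≤ Module.finrank F E) (σ : (E × F) ≃ₐ[F] (E × F)) (x : E) :
    restr hr σ x = (σ (x, 0)).1 := rfl

theorem restr_injective [FiniteDimensional F E] (hr : 2 ≤ Module.finrank F E) :
    Function.Injective (restr (F := F) (E := E) hr) := by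
  intro σ τ h
  refine AlgEquiv.ext fun p => ?_
  obtain ⟨x, c⟩ := p
  rw [aut_apply hr σ, aut_apply hr τ, ← restr_apply hr σ, ← restr_apply hr τ, h]

variable [Fintype F] {n : ℕ}

local notation "q" => Fintype.card F
local notation "M" => Matrix (Fin n) (Fin n) F

/-- The chosen element of a torus of type `(n - 1, 1)`. -/
structure SplitElem (t : GL (Fin n) F) : Prop where
  mem_slz : t ∈ slz F n
  order : orderOf t = q ^ (n - 1) - 1
  nil : ∀ K : Subgroup (GL (Fin n) F), Group.IsNilpotent K → t ∈ K →
    K ≤ Subgroup.normalizer (Subgroup.centralizer ({t} : Set (GL (Fin n) F)) : Set (GL (Fin n) F))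
  ab : ∀ y : GL (Fin n) F, orderOf y = q ^ (n - 1) - 1 →
    y ∈ Subgroup.normalizer (Subgroup.centralizer ({t} : Set (GL (Fin n) F)) : Set (GL (Fin n) F)) →
      y * t = t * y
  comm : ∀ a ∈ Subgroup.centralizer ({t} : Set (GL (Fin n) F)),
    ∀ b ∈ Subgroup.centralizer ({t} : Set (GL (Fin n) F)), a * b = b * a
  idem : ∃ P : M, P * P = P ∧ P ≠ 0 ∧ P ≠ 1 ∧
    ∀ y ∈ Subgroup.normalizer (Subgroup.centralizer ({t} : Set (GL (Fin n) F)) : Set (GL (Fin n) F)),
      (y : M) * P = P * (y : M)

theorem exists_split (hn : 3 ≤ n) :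
    ∃ t : GL (Fin n) F, (∀ g : GL (Fin n) F, SplitElem (g * t * g⁻¹)) ∧
      Nat.card (Subgroup.normalizer (Subgroup.centralizer ({t} : Set (GL (Fin n) F)) : Set (GL (Fin n) F)))
        ≤ (n - 1) * ((q ^ (n - 1) - 1) * (q - 1)) := by
  classical
  obtain ⟨p, hc⟩ := CharP.exists F
  have : Fact p.Prime := ⟨CharP.char_is_prime F p⟩
  have : NeZero (n - 1) := ⟨by omega⟩
  let E := FiniteField.Extension F p (n - 1)
  have hr : Module.finrank F E = n - 1 := FiniteField.finrank_extension ..
  haveI : FiniteDimensional F E := Module.finite_of_finrank_pos (by omega)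
  haveI : Finite E := Module.finite_of_finite F
  have hr2 : 2 ≤ Module.finrank F E := by omega
  have hq2 : 2 ≤ q := Fintype.one_lt_card
  have hrn : Module.finrank F (E × F) = n := by rw [Module.finrank_prod, hr, Module.finrank_self]; omega
  let b : Module.Basis (Fin n) F (E × F) := Module.finBasisOfFinrankEq F (E × F) hrn
  let φ : (E × F) →ₐ[F] M := Algebra.leftMulMatrix b
  obtain ⟨w, hw⟩ := IsCyclic.exists_ofOrder_eq_natCard (α := Eˣ)
  rw [Nat.card_units, Module.natCard_eq_pow_finrank (K := F), Nat.card_eq_fintype_card, hr] at hw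
  have hNw : Algebra.norm F (w : E) ≠ 0 := (Algebra.norm_ne_zero_iff).2 w.ne_zero
  set c : Fˣ := (Units.mk0 _ hNw)⁻¹ with hcdef
  set r0 : (E × F)ˣ := MulEquiv.prodUnits.symm (w, c) with hr0
  have hr0v : (r0 : E × F) = ((w : E), (c : F)) := rfl
  set t : GL (Fin n) F := Units.map φ.toRingHom.toMonoidHom r0 with ht
  have hord : orderOf t = q ^ (n - 1) - 1 := by
    rw [ht, orderOf_injective (Units.map φ.toRingHom.toMonoidHom)
      (Units.map_injective (Algebra.leftMulMatrix_injective b)), hr0,
      MulEquiv.orderOf_eq, Prod.orderOf, hw]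
    refine Nat.lcm_eq_left ?_
    refine orderOf_dvd_of_pow_eq_one ?_
    obtain ⟨k, hk⟩ : q - 1 ∣ q ^ (n - 1) - 1 := by simpa using Nat.sub_dvd_pow_sub_pow q 1 (n - 1)
    rw [hk, pow_mul, show c ^ (q - 1) = 1 from Units.ext (by
      rw [Units.val_pow_eq_pow_val, Units.val_one]; exact FiniteField.pow_card_sub_one_eq_one _ c.ne_zero), one_pow]
  have hdet : (t : M).det = 1 := by
    show (Algebra.leftMulMatrix b (r0 : E × F)).det = 1
    rw [← Algebra.norm_eq_matrix_det b, hr0v, Algebra.norm_apply]
    have hmul : Algebra.lmul F (E × F) ((w : E), (c : F)) =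
        LinearMap.prodMap (Algebra.lmul F E (w : E)) (Algebra.lmul F F (c : F)) := by
      refine LinearMap.ext fun x => ?_
      simp [Algebra.coe_lmul_eq_mul]
      rfl
    rw [hmul, LinearMap.det_prodMap, ← Algebra.norm_apply, ← Algebra.norm_apply, Algebra.norm_self,
      MonoidHom.id_apply, hcdef, Units.val_inv_eq_inv_val, Units.val_mk0, mul_inv_cancel₀ hNw]
  have hgen : Algebra.adjoin F ({(r0 : E × F)} : Set (E × F)) = ⊤ := by
    set C := Algebra.adjoin F ({(r0 : E × F)} : Set (E × F)) with hC
    have hgenE : Algebra.adjoin F ({(w : E)} : Set E) = ⊤ :=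
      adjoin_eq_top w.ne_zero (N := q ^ (n - 1) - 1) (by rw [orderOf_units, hw]) (by
        rw [hr]
        have h1 : q ^ (n - 1) = q ^ (n - 1 - 1) * q := by rw [← pow_succ]; congr 1; omega
        have h2 : q ^ (n - 1 - 1) * 2 ≤ q ^ (n - 1 - 1) * q := Nat.mul_le_mul_left _ hq2
        have := Nat.one_le_pow (n - 1 - 1) q (by omega)
        omega)
    set f := minpoly F (w : E) with hf
    have hint : IsIntegral F (w : E) := IsIntegral.of_finite F _
    have hirr : Irreducible f := minpoly.irreducible hint
    have hdeg : f.natDegree = n - 1 := by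
      rw [← hr, hf]
      exact ((Field.primitive_element_iff_minpoly_natDegree_eq F (w : E)).1 (by
        rw [← IntermediateField.adjoin_simple_toSubalgebra_of_isAlgebraic hint.isAlgebraic] at hgenE
        exact IntermediateField.toSubalgebra_injective (by rw [hgenE, IntermediateField.top_toSubalgebra])))
    have hfc : f.eval (c : F) ≠ 0 := fun h0 => by
      have := Polynomial.degree_eq_one_of_irreducible_of_root hirr h0
      rw [Polynomial.degree_eq_natDegree hirr.ne_zero, hdeg] at this
      norm_cast at this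
      omega
    have haev : ∀ g : Polynomial F, ((Polynomial.aeval (w : E) g, g.eval (c : F)) : E × F) ∈ C := fun g => by
      have h : Polynomial.aeval (r0 : E × F) g = (Polynomial.aeval (w : E) g, g.eval (c : F)) := by
        rw [hr0v, Polynomial.aeval_prod_apply, Polynomial.coe_aeval_eq_eval]
      rw [← h]; exact Polynomial.aeval_mem_adjoin_singleton F _
    have h01 : ∀ x : F, ((0 : E), x) ∈ C := fun x => by
      have h := haev (Polynomial.C (x / f.eval (c : F)) * f)
      rwa [map_mul, hf, minpoly.aeval, mul_zero, ← hf, Polynomial.eval_mul, Polynomial.eval_C,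
        div_mul_cancel₀ _ hfc] at h
    refine eq_top_iff.2 fun y _ => ?_
    obtain ⟨x, d⟩ := y
    have hx : x ∈ Algebra.adjoin F ({(w : E)} : Set E) := hgenE ▸ Algebra.mem_top
    rw [Algebra.adjoin_singleton_eq_range_aeval] at hx
    obtain ⟨g, rfl⟩ := hx
    have := add_mem (haev g) (h01 (d - g.eval (c : F)))
    simpa using this
  let D : RegData F n (E × F) :=
    { φ := φ
      v0 := b.repr 1
      bij := by
        have : (fun r => (φ r).mulVec (b.repr 1 : Fin n → F)) = fun r => ⇑(b.repr r) := by
          funext r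
          rw [Algebra.leftMulMatrix_mulVec_repr, mul_one]
        rw [this]
        exact b.equivFun.bijective
      r0 := r0
      gen := hgen
      t := t
      t_eq := rfl }
  haveI : Finite (E ≃ₐ[F] E) := fin_aut
  refine ⟨t, fun g => ?_, ?_⟩
  · let D' := D.conj g
    have hD' : D'.t = g * t * g⁻¹ := rfl
    have hord' : orderOf (g * t * g⁻¹) = q ^ (n - 1) - 1 := by
      rw [← hord]
      exact orderOf_injective (MulAut.conj g).toMonoidHom (MulEquiv.injective _) t
    have hsm : ∀ y ∈ Subgroup.normalizer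
        (Subgroup.centralizer ({D'.t} : Set (GL (Fin n) F)) : Set (GL (Fin n) F)),
        orderOf y = q ^ (n - 1) - 1 → y ∈ Subgroup.centralizer ({D'.t} : Set (GL (Fin n) F)) := by
      intro y hy ho
      rcases D'.normal_cases hy with h | ⟨σ, hσ, x, hx, hfix, hpow⟩
      · exact h
      exfalso
      obtain ⟨x1, x2⟩ := x
      have hσ1 : restr hr2 σ ≠ 1 := fun h => hσ (restr_injective hr2 (h.trans (map_one _).symm))
      obtain ⟨d, hd, hm, hmd, hxd⟩ := aut_small (restr hr2 σ) hσ1
      rw [orderOf_injective _ (restr_injective hr2)] at hm hmd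
      rw [hr] at hmd
      rw [Prod.isUnit_iff] at hx
      have hf1 : restr hr2 σ x1 = x1 := by
        rw [restr_apply]
        have := aut_apply hr2 σ x1 x2
        rw [hfix] at this
        exact (Prod.mk.inj this).1.symm
      have h1 := hxd x1 hx.1.ne_zero hf1
      have h2 : x2 ^ (q ^ d - 1) = 1 := by
        obtain ⟨k, hk⟩ : q - 1 ∣ q ^ d - 1 := by simpa using Nat.sub_dvd_pow_sub_pow q 1 d
        rw [hk, pow_mul, FiniteField.pow_card_sub_one_eq_one _ hx.2.ne_zero, one_pow]
      have hy1 : y ^ (orderOf σ * (q ^ d - 1)) = 1 := by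
        refine Units.ext ?_
        rw [pow_mul, Units.val_pow_eq_pow_val, hpow, ← map_pow, Prod.pow_mk, h1, h2]
        exact map_one _
      have hle : orderOf y ≤ orderOf σ * (q ^ d - 1) := by
        refine orderOf_le_of_pow_eq_one (Nat.mul_pos (by omega) ?_) hy1
        have : 2 ≤ q ^ d := le_trans hq2 (Nat.le_self_pow (by omega) q)
        omega
      have := split_bound hq2 hm hd hmd
      omega
    refine ⟨mem_slz_of_det ?_, hord', fun K hK hK' => ?_, fun y ho hy => ?_, D'.cent_comm,
      D'.φ (0, 1), ?_, ?_, ?_, fun y hy => ?_⟩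
    · rw [Units.val_mul, Units.val_mul]
      exact (Matrix.det_units_conj g (t : M)).trans hdet
    · haveI := hK
      exact le_normalizer K hK' D'.cent_comm fun y hy ho => hsm y hy (ho.trans hord')
    · exact Subgroup.mem_centralizer_singleton_iff.1 (hsm y hy ho)
    · rw [← map_mul]; simp
    · rw [← map_zero D'.φ]; intro h
      simpa using D'.inj h
    · rw [← map_one D'.φ]; intro h
      simpa [Prod.ext_iff] using D'.inj h
    · obtain ⟨σ, hσ⟩ := D'.exists_aut hy
      rw [hσ, (aut_fixes hr2 σ).2]
  · refine D.card_normalizer_le.trans ?_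
    refine Nat.mul_le_mul ?_ (le_of_eq ?_)
    · refine le_trans (Nat.card_le_card_of_injective _ (restr_injective hr2)) ?_
      rw [@Nat.card_eq_fintype_card _ (AlgEquiv.fintype F E)]
      exact le_trans AlgEquiv.card_le hr.le
    · rw [Nat.card_congr MulEquiv.prodUnits.toEquiv, Nat.card_prod, Nat.card_units, Nat.card_units,
        Module.natCard_eq_pow_finrank (K := F), hr, Nat.card_eq_fintype_card]

end Cfsg.Lib.PGLCover
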